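import Mathlib

/-!
# Z-groups and point stabilisers in doubly transitive groups

Elementary facts used for the factorization `G = A B` with `A` cyclic and `B` a Z-group.
-/

set_option autoImplicit false

open scoped commutatorElement

namespace Cfsg.Agent.CycZProd

/-- A finite Z-group has a normal cyclic self-centralising subgroup with cyclic abelian quotient. -/
theorem zgroup_normal_cyclic (B : Type*) [Group B] [Finite B] [IsZGroup B] :
    ∃ C : Subgroup B, C.Normal ∧ IsCyclic C ∧ (∀ b : B, (∀ c ∈ C, b * c = c * b) → b ∈ C) ∧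
      commutator B ≤ C := by
  classical
  let C : Subgroup B := Subgroup.centralizer (commutator B : Set B)
  haveI hcyc' : IsCyclic (commutator B) := IsZGroup.isCyclic_commutator B
  have hle : commutator B ≤ C := by
    intro x hx
    rw [Subgroup.mem_centralizer_iff]
    intro y hy
    have h := IsMulCommutative.is_comm.comm (⟨y, hy⟩ : commutator B) ⟨x, hx⟩
    exact congrArg Subtype.val h
  have hnorm : C.Normal := inferInstance
  refine ⟨C, hnorm, ?_, ?_, hle⟩
  · haveI : IsMulCommutative (C ⧸ (commutator B).subgroupOf C) := by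
      constructor
      constructor
      intro u v
      induction u using QuotientGroup.induction_on with | _ u =>
      induction v using QuotientGroup.induction_on with | _ v =>
      rw [← QuotientGroup.mk_mul, ← QuotientGroup.mk_mul, QuotientGroup.eq,
        Subgroup.mem_subgroupOf]
      have hmem : ⁅(v : B)⁻¹, (u : B)⁻¹⁆ ∈ commutator B :=
        Subgroup.commutator_mem_commutator (Subgroup.mem_top _) (Subgroup.mem_top _)
      have heq : ((↑((u * v)⁻¹ * (v * u)) : B)) = ⁅(v : B)⁻¹, (u : B)⁻¹⁆ := by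
        simp [commutatorElement_def, mul_assoc]
      rw [heq]
      exact hmem
    haveI : Group.IsNilpotent (C ⧸ (commutator B).subgroupOf C) := by
      open scoped IsMulCommutative in infer_instance
    haveI : Group.IsNilpotent C := by
      apply isNilpotent_of_ker_le_center (QuotientGroup.mk' ((commutator B).subgroupOf C))
      rw [QuotientGroup.ker_mk']
      intro x hx
      rw [Subgroup.mem_center_iff]
      intro y
      apply Subtype.ext
      exact ((Subgroup.mem_centralizer_iff.mp y.2) (x : B) hx).symm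
    infer_instance
  · intro b hb
    rw [Subgroup.mem_centralizer_iff]
    intro c hc
    exact (hb c (hle hc)).symm

/-- An abelian finite Z-group is cyclic. -/
theorem isCyclic_of_commute {G : Type*} [Group G] [Finite G] [IsZGroup G]
    (h : ∀ a b : G, a * b = b * a) : IsCyclic G := by
  haveI : IsMulCommutative G := ⟨⟨h⟩⟩
  haveI : Group.IsNilpotent G := by
    open scoped IsMulCommutative in infer_instance
  infer_instance

/-- In a cyclic group, an element generates every element whose order divides its order. -/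
theorem mem_zpowers_of_orderOf_dvd {G : Type*} [Group G] [Finite G] {C : Subgroup G}
    (hC : IsCyclic C) {u v : G} (hu : u ∈ C) (hv : v ∈ C) (h : orderOf v ∣ orderOf u) :
    v ∈ Subgroup.zpowers u := by
  haveI := Fintype.ofFinite C
  let u' : C := ⟨u, hu⟩
  let v' : C := ⟨v, hv⟩
  have h' : orderOf v' ∣ orderOf u' := by simpa [u', v', Subgroup.orderOf_mk] using h
  obtain ⟨g, hg⟩ := hC.exists_generator
  obtain ⟨k, hk⟩ := (Subgroup.mem_zpowers_iff).mp (hg u')
  obtain ⟨l, hl⟩ := (Subgroup.mem_zpowers_iff).mp (hg v')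
  classical
  have hsub : Subgroup.zpowers v' ≤ Subgroup.zpowers u' := by
    let Hv : Finset C := Finset.univ.filter (fun x => x ^ orderOf u' = 1)
    have hcardle : Hv.card ≤ orderOf u' := IsCyclic.card_pow_eq_one_le (orderOf_pos u')
    have hsubset : (Finset.univ.filter (fun x => x ∈ Subgroup.zpowers u')) ⊆ Hv := by
      intro x hx
      simp only [Finset.mem_filter, Finset.mem_univ, true_and, Hv] at hx ⊢
      exact orderOf_dvd_iff_pow_eq_one.mp (orderOf_dvd_of_mem_zpowers hx)
    have hcard : (Finset.univ.filter (fun x => x ∈ Subgroup.zpowers u')).card = orderOf u' := by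
      rw [← Fintype.card_subtype, ← Fintype.card_zpowers]
    have heq := Finset.eq_of_subset_of_card_le hsubset (hcard.symm ▸ hcardle)
    intro x hx
    have : x ∈ Hv := by
      simp only [Finset.mem_filter, Finset.mem_univ, true_and, Hv]
      exact orderOf_dvd_iff_pow_eq_one.mp ((orderOf_dvd_of_mem_zpowers hx).trans h')
    rw [← heq] at this
    simpa using this
  obtain ⟨m, hm⟩ := Subgroup.mem_zpowers_iff.mp (hsub (Subgroup.mem_zpowers v'))
  exact Subgroup.mem_zpowers_iff.mpr ⟨m, by simpa [u', v'] using congrArg Subtype.val hm⟩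

/-- In a cyclic subgroup there is at most one involution. -/
theorem involution_unique_of_cyclic {G : Type*} [Group G] [Finite G] {C : Subgroup G}
    (hC : IsCyclic C) {u v : G} (hu : u ∈ C) (hv : v ∈ C) (hu2 : orderOf u = 2)
    (hv2 : orderOf v = 2) : v = u := by
  have h := mem_zpowers_of_orderOf_dvd hC hu hv (by rw [hu2, hv2])
  obtain ⟨k, hk⟩ := Subgroup.mem_zpowers_iff.mp h
  rcases Int.even_or_odd k with ⟨l, rfl⟩ | ⟨l, rfl⟩
  · exfalso
    have : v = 1 := by
      rw [← hk, ← two_mul, zpow_mul]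
      have : u ^ (2 : ℤ) = 1 := by
        rw [zpow_two, ← pow_two, ← hu2, pow_orderOf_eq_one]
      rw [this, one_zpow]
    rw [this, orderOf_one] at hv2
    exact absurd hv2 (by decide)
  · rw [← hk, zpow_add_one, zpow_mul]
    have : u ^ (2 : ℤ) = 1 := by
      rw [zpow_two, ← pow_two, ← hu2, pow_orderOf_eq_one]
    rw [this, one_zpow, one_mul]

/-- Two commuting involutions in a Z-subgroup coincide. -/
theorem involution_eq_of_commute {G : Type*} [Group G] [Finite G] {H : Subgroup G} [IsZGroup H]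
    {u v : G} (hu : u ∈ H) (hv : v ∈ H) (hu2 : orderOf u = 2) (hv2 : orderOf v = 2)
    (h : u * v = v * u) : v = u := by
  haveI := Fact.mk Nat.prime_two
  let u' : H := ⟨u, hu⟩
  let v' : H := ⟨v, hv⟩
  have hu' : IsPGroup 2 (Subgroup.zpowers u') := IsPGroup.iff_card.mpr ⟨1, by
    rw [Nat.card_zpowers, pow_one]; simpa [u', Subgroup.orderOf_mk] using hu2⟩
  have hv' : IsPGroup 2 (Subgroup.zpowers v') := IsPGroup.iff_card.mpr ⟨1, by
    rw [Nat.card_zpowers, pow_one]; simpa [v', Subgroup.orderOf_mk] using hv2⟩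
  have hnorm : Subgroup.zpowers u' ≤ Subgroup.normalizer (Subgroup.zpowers v' : Set H) := by
    refine (Subgroup.zpowers_le.mpr ?_).trans (Subgroup.centralizer_le_normalizer _)
    rw [Subgroup.mem_centralizer_iff]
    intro w hw
    obtain ⟨k, rfl⟩ := Subgroup.mem_zpowers_iff.mp hw
    have : Commute u' v' := Subtype.ext h
    exact (this.zpow_right k).eq.symm
  have hsup := hu'.to_sup_of_normal_right' hv' hnorm
  haveI hc := hsup.isCyclic_of_isZGroup
  have := involution_unique_of_cyclic hc (u := u') (v := v')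
    (Subgroup.mem_sup_left (Subgroup.mem_zpowers _))
    (Subgroup.mem_sup_right (Subgroup.mem_zpowers _))
    (by simpa [u', Subgroup.orderOf_mk] using hu2) (by simpa [v', Subgroup.orderOf_mk] using hv2)
  exact congrArg Subtype.val this

/-- In a Z-subgroup all involutions are conjugate. -/
theorem involution_conj {G : Type*} [Group G] [Finite G] {H : Subgroup G} [IsZGroup H]
    {u v : G} (hu : u ∈ H) (hv : v ∈ H) (hu2 : orderOf u = 2) (hv2 : orderOf v = 2) :
    ∃ b ∈ H, v = b * u * b⁻¹ := by
  haveI := Fact.mk Nat.prime_two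
  let u' : H := ⟨u, hu⟩
  let v' : H := ⟨v, hv⟩
  have hu' : IsPGroup 2 (Subgroup.zpowers u') := IsPGroup.iff_card.mpr ⟨1, by
    rw [Nat.card_zpowers, pow_one]; simpa [u', Subgroup.orderOf_mk] using hu2⟩
  have hv' : IsPGroup 2 (Subgroup.zpowers v') := IsPGroup.iff_card.mpr ⟨1, by
    rw [Nat.card_zpowers, pow_one]; simpa [v', Subgroup.orderOf_mk] using hv2⟩
  obtain ⟨P, hP⟩ := hu'.exists_le_sylow
  obtain ⟨Q, hQ⟩ := hv'.exists_le_sylow
  obtain ⟨b, hb⟩ := MulAction.exists_smul_eq H Q P
  have hvb : b * v' * b⁻¹ ∈ P := by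
    rw [← hb, ← SetLike.mem_coe, Sylow.coe_smul]
    exact Set.smul_mem_smul_set (a := MulAut.conj b) (hQ (Subgroup.mem_zpowers v'))
  have := involution_unique_of_cyclic (C := (P : Subgroup H)) inferInstance
    (hP (Subgroup.mem_zpowers u')) hvb (by simpa [u', Subgroup.orderOf_mk] using hu2)
    (by
      rw [← MulAut.conj_apply, MulEquiv.orderOf_eq]
      simpa [v', Subgroup.orderOf_mk] using hv2)
  refine ⟨((b⁻¹ : H) : G), (b⁻¹).2, ?_⟩
  have h := congrArg Subtype.val this
  simp only [Subgroup.coe_mul, Subgroup.coe_inv, u', v'] at h ⊢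
  rw [inv_inv, ← h]
  group

/-- In a Z-subgroup, an element of prime order generating a normal subgroup generates all
elements of that order. -/
theorem mem_zpowers_of_prime_normal {G : Type*} [Group G] [Finite G] {H : Subgroup G} [IsZGroup H]
    {r : ℕ} (hr : r.Prime) {u v : G} (hu : u ∈ H) (hv : v ∈ H) (hur : orderOf u = r)
    (hvr : orderOf v = r) (hn : ∀ h ∈ H, h * u * h⁻¹ ∈ Subgroup.zpowers u) :
    v ∈ Subgroup.zpowers u := by
  haveI := Fact.mk hr
  let u' : H := ⟨u, hu⟩
  let v' : H := ⟨v, hv⟩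
  have hu' : IsPGroup r (Subgroup.zpowers u') := IsPGroup.iff_card.mpr ⟨1, by
    rw [Nat.card_zpowers, pow_one]; simpa [u', Subgroup.orderOf_mk] using hur⟩
  have hv' : IsPGroup r (Subgroup.zpowers v') := IsPGroup.iff_card.mpr ⟨1, by
    rw [Nat.card_zpowers, pow_one]; simpa [v', Subgroup.orderOf_mk] using hvr⟩
  have : (Subgroup.zpowers u').Normal := by
    refine ⟨fun x hx g => ?_⟩
    obtain ⟨k, rfl⟩ := Subgroup.mem_zpowers_iff.mp hx
    rw [← conj_zpow]
    refine Subgroup.zpow_mem _ ?_ k
    obtain ⟨l, hl⟩ := Subgroup.mem_zpowers_iff.mp (hn g g.2)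
    exact Subgroup.mem_zpowers_iff.mpr ⟨l, Subtype.ext (by simpa [u'] using hl)⟩
  have hsup := hv'.to_sup_of_normal_right hu'
  haveI hc := hsup.isCyclic_of_isZGroup
  have := mem_zpowers_of_orderOf_dvd hc (u := u') (v := v')
    (Subgroup.mem_sup_right (Subgroup.mem_zpowers _))
    (Subgroup.mem_sup_left (Subgroup.mem_zpowers _))
    (by simp [u', v', Subgroup.orderOf_mk, hur, hvr])
  obtain ⟨l, hl⟩ := Subgroup.mem_zpowers_iff.mp this
  exact Subgroup.mem_zpowers_iff.mpr ⟨l, by simpa [u', v'] using congrArg Subtype.val hl⟩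

/-! ### Doubly transitive actions with Z-group stabilisers -/

/-- Doubly transitive action, stated with elements. -/
def TwoTrans (G Ω : Type*) [Group G] [MulAction G Ω] : Prop :=
  ∀ a b c d : Ω, a ≠ b → c ≠ d → ∃ g : G, g • a = c ∧ g • b = d

theorem twoTrans_iff (G Ω : Type*) [Group G] [MulAction G Ω] :
    TwoTrans G Ω ↔ MulAction.IsMultiplyPretransitive G Ω 2 := by
  rw [MulAction.is_two_pretransitive_iff]
  exact ⟨fun h a b c d h1 h2 => h a b c d h1 h2, fun h a b c d h1 h2 => h h1 h2⟩

theorem TwoTrans.isPretransitive {G Ω : Type*} [Group G] [MulAction G Ω] (h2 : TwoTrans G Ω) :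
    MulAction.IsPretransitive G Ω := by
  haveI := (twoTrans_iff G Ω).mp h2
  exact MulAction.isPretransitive_of_is_two_pretransitive

/-- The pointwise stabiliser of a pair. -/
def pairStab (G : Type*) {Ω : Type*} [Group G] [MulAction G Ω] (a b : Ω) : Subgroup G :=
  MulAction.stabilizer G a ⊓ MulAction.stabilizer G b

theorem mem_pairStab {G Ω : Type*} [Group G] [MulAction G Ω] {a b : Ω} {g : G} :
    g ∈ pairStab G a b ↔ g • a = a ∧ g • b = b := by
  simp [pairStab]

theorem pairStab_le {G Ω : Type*} [Group G] [MulAction G Ω] (a b : Ω) :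
    pairStab G a b ≤ MulAction.stabilizer G a := inf_le_left

variable {G Ω : Type*} [Group G] [Finite G] [MulAction G Ω] [FaithfulSMul G Ω] [Finite Ω]

theorem card_stabilizer_eq (h2 : TwoTrans G Ω) {a b : Ω} (hab : a ≠ b) :
    Nat.card (MulAction.stabilizer G a) = (Nat.card Ω - 1) * Nat.card (pairStab G a b) := by
  classical
  let S : Subgroup G := MulAction.stabilizer G a
  have horb : MulAction.orbit S b = {c | c ≠ a} := by
    ext c
    constructor
    · rintro ⟨⟨g, hg⟩, rfl⟩ hc
      change g • b = a at hc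
      exact hab (smul_left_cancel g ((MulAction.mem_stabilizer_iff.mp hg).trans hc.symm))
    · intro hc
      obtain ⟨g, hga, hgb⟩ := h2 a b a c hab (Ne.symm hc)
      exact ⟨⟨g, MulAction.mem_stabilizer_iff.mpr hga⟩, hgb⟩
  have hidx := MulAction.index_stabilizer S b
  rw [horb] at hidx
  have hcard : ({c : Ω | c ≠ a} : Set Ω).ncard = Nat.card Ω - 1 := by
    have : ({c : Ω | c ≠ a} : Set Ω) = ({a} : Set Ω)ᶜ := by ext; simp
    rw [this, Set.ncard_compl, Set.ncard_singleton]
  rw [hcard] at hidx
  have e : Nat.card (MulAction.stabilizer S b) = Nat.card (pairStab G a b) := by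
    refine Nat.card_congr ⟨fun g => ⟨g.1.1, mem_pairStab.mpr ⟨g.1.2, g.2⟩⟩,
      fun g => ⟨⟨g.1, (mem_pairStab.mp g.2).1⟩, (mem_pairStab.mp g.2).2⟩,
      fun g => rfl, fun g => rfl⟩
  rw [← Subgroup.index_mul_card (MulAction.stabilizer S b), hidx, e]

theorem card_group_eq (h2 : TwoTrans G Ω) (a : Ω) :
    Nat.card G = Nat.card Ω * Nat.card (MulAction.stabilizer G a) := by
  haveI := h2.isPretransitive
  rw [← Subgroup.index_mul_card (MulAction.stabilizer G a),
    MulAction.index_stabilizer_of_transitive]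

/-- The normal cyclic self-centralising subgroup of a point stabiliser. -/
theorem exists_stab_core (h2 : TwoTrans G Ω) (a : Ω) [IsZGroup (MulAction.stabilizer G a)] :
    ∃ C : Subgroup G, C ≤ MulAction.stabilizer G a ∧ IsCyclic C ∧
      (∀ g ∈ MulAction.stabilizer G a, ∀ c ∈ C, g * c * g⁻¹ ∈ C) ∧
      (∀ g ∈ MulAction.stabilizer G a, ∀ h ∈ MulAction.stabilizer G a,
        g * h * g⁻¹ * h⁻¹ ∈ C) ∧
      (∀ g ∈ MulAction.stabilizer G a, (∀ c ∈ C, g * c = c * g) → g ∈ C) ∧
      (∀ c ∈ C, ∀ b : Ω, b ≠ a → c • b = b → c = 1) ∧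
      Nat.card C ∣ Nat.card Ω - 1 := by
  classical
  let B : Subgroup G := MulAction.stabilizer G a
  obtain ⟨C₀, hn, hcyc, hself, hcomm⟩ := zgroup_normal_cyclic B
  let C : Subgroup G := C₀.map B.subtype
  have hle : C ≤ B := Subgroup.map_subtype_le C₀
  have hmem : ∀ x : B, (x : G) ∈ C ↔ x ∈ C₀ := fun x =>
    Subgroup.mem_map_iff_mem B.subtype_injective
  have hC : IsCyclic C :=
    isCyclic_of_surjective _ (C₀.equivMapOfInjective _ B.subtype_injective).surjective
  have hnorm : ∀ g ∈ B, ∀ c ∈ C, g * c * g⁻¹ ∈ C := by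
    intro g hg c hc
    have := hn.conj_mem ⟨c, hle hc⟩ ((hmem ⟨c, hle hc⟩).mp hc) ⟨g, hg⟩
    simpa using (hmem _).mpr this
  have hsemi : ∀ c ∈ C, ∀ b : Ω, b ≠ a → c • b = b → c = 1 := by
    intro c hc b hb hcb
    apply eq_of_smul_eq_smul (α := Ω)
    intro x
    rw [one_smul]
    by_cases hx : x = a
    · rw [hx]; exact MulAction.mem_stabilizer_iff.mp (hle hc)
    · obtain ⟨g, hga, hgb⟩ := h2 a b a x hb.symm (Ne.symm hx)
      have hgi : g⁻¹ ∈ B := B.inv_mem (MulAction.mem_stabilizer_iff.mpr hga)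
      have hc' : g⁻¹ * c * g ∈ C := by simpa using hnorm g⁻¹ hgi c hc
      have hord : orderOf (g⁻¹ * c * g) = orderOf c := by
        have := MulEquiv.orderOf_eq (MulAut.conj g⁻¹) c
        simpa [MulAut.conj_apply] using this
      obtain ⟨k, hk⟩ :=
        Subgroup.mem_zpowers_iff.mp (mem_zpowers_of_orderOf_dvd hC hc hc' hord.dvd)
      have hfix : (g⁻¹ * c * g) • b = b := by
        rw [← hk]
        exact MulAction.mem_stabilizer_iff.mp
          (Subgroup.zpow_mem _ (MulAction.mem_stabilizer_iff.mpr hcb) k)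
      rw [mul_smul, mul_smul, hgb, inv_smul_eq_iff, hgb] at hfix
      exact hfix
  refine ⟨C, hle, hC, hnorm, ?_, ?_, hsemi, ?_⟩
  · intro g hg h hh
    have := hcomm (Subgroup.commutator_mem_commutator (Subgroup.mem_top (⟨g, hg⟩ : B))
      (Subgroup.mem_top (⟨h, hh⟩ : B)))
    simpa [commutatorElement_def] using (hmem _).mpr this
  · intro g hg hcm
    refine (hmem ⟨g, hg⟩).mpr (hself _ fun c hc => Subtype.ext ?_)
    exact hcm c ((hmem c).mpr hc)
  · by_cases hex : ∃ b : Ω, b ≠ a
    · obtain ⟨b, hb⟩ := hex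
      let D : Subgroup G := pairStab G a b
      let f : D →* B ⧸ C₀ :=
        (QuotientGroup.mk' C₀).comp (Subgroup.inclusion (pairStab_le a b))
      have hinj : Function.Injective f := by
        rw [injective_iff_map_eq_one]
        intro d hd
        rw [MonoidHom.comp_apply, QuotientGroup.mk'_apply, QuotientGroup.eq_one_iff] at hd
        exact Subtype.ext (hsemi d ((hmem _).mpr hd) b hb (mem_pairStab.mp d.2).2)
      have h1 := Subgroup.card_dvd_of_injective f hinj
      have h3 : Nat.card B = Nat.card (B ⧸ C₀) * Nat.card C₀ :=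
        Subgroup.card_eq_card_quotient_mul_card_subgroup C₀
      have h4 : Nat.card C = Nat.card C₀ := Subgroup.card_map_of_injective B.subtype_injective
      have h5 : Nat.card B = (Nat.card Ω - 1) * Nat.card D := card_stabilizer_eq h2 hb.symm
      have h6 : Nat.card D * Nat.card C ∣ Nat.card D * (Nat.card Ω - 1) := by
        rw [mul_comm (Nat.card D) (Nat.card Ω - 1), ← h5, h3, h4]
        exact mul_dvd_mul_right h1 _
      exact Nat.dvd_of_mul_dvd_mul_left Nat.card_pos h6
    · haveI : Nonempty Ω := ⟨a⟩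
      haveI : Subsingleton Ω := ⟨fun x y => by
        rw [not_exists_not.mp hex x, not_exists_not.mp hex y]⟩
      rw [Nat.card_unique (α := Ω)]
      exact dvd_zero _

/-- A pair stabiliser is cyclic. -/
theorem isCyclic_pairStab (h2 : TwoTrans G Ω) {a b : Ω} (hab : a ≠ b)
    [IsZGroup (MulAction.stabilizer G a)] : IsCyclic (pairStab G a b) := by
  obtain ⟨C, -, -, -, hcomm, -, hsemi, -⟩ := exists_stab_core h2 a
  haveI : IsZGroup (pairStab G a b) :=
    IsZGroup.of_injective (f := Subgroup.inclusion (pairStab_le a b))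
      (Subgroup.inclusion_injective _)
  apply isCyclic_of_commute
  intro u v
  apply Subtype.ext
  have hu := mem_pairStab.mp u.2
  have hv := mem_pairStab.mp v.2
  have hc := hcomm u (pairStab_le a b u.2) v (pairStab_le a b v.2)
  have hmem : (u : G) * v * (u : G)⁻¹ * (v : G)⁻¹ ∈ pairStab G a b :=
    mul_mem (mul_mem (mul_mem u.2 v.2) (inv_mem u.2)) (inv_mem v.2)
  have := hsemi _ hc b hab.symm (mem_pairStab.mp hmem).2
  change (u : G) * v = v * u
  rw [mul_inv_eq_one, mul_inv_eq_iff_eq_mul] at this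
  exact this

end Cfsg.Agent.CycZProd
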