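import Cfsg.Agent.CycZProd.Basic

/-!
# Counting involutions interchanging two given points
-/

set_option autoImplicit false

namespace Cfsg.Agent.CycZProd

open scoped Classical

variable {G Ω : Type*} [Group G] [Finite G] [MulAction G Ω] [FaithfulSMul G Ω] [Finite Ω]

theorem conj_orderOf (g t : G) : orderOf (g * t * g⁻¹) = orderOf t := by
  rw [← MulAut.conj_apply, MulEquiv.orderOf_eq]

theorem sq_eq_one_of_orderOf_two {t : G} (ht : orderOf t = 2) : t * t = 1 := by
  rw [← pow_two, ← ht, pow_orderOf_eq_one]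

theorem inv_eq_self_of_orderOf_two {t : G} (ht : orderOf t = 2) : t⁻¹ = t :=
  inv_eq_of_mul_eq_one_right (sq_eq_one_of_orderOf_two ht)

theorem smul_smul_of_orderOf_two {t : G} (ht : orderOf t = 2) (x : Ω) : t • t • x = x := by
  rw [← mul_smul, sq_eq_one_of_orderOf_two ht, one_smul]

/-- A two-element-orbit action has an even number of fixed points on an even set. -/
theorem exists_second_fixed (heven : Even (Nat.card Ω)) {t : G} (ht : orderOf t = 2) {a : Ω}
    (ha : t • a = a) : ∃ b : Ω, b ≠ a ∧ t • b = b := by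
  haveI := Fact.mk Nat.prime_two
  have hp : IsPGroup 2 (Subgroup.zpowers t) := IsPGroup.iff_card.mpr ⟨1, by
    rw [Nat.card_zpowers, pow_one, ht]⟩
  have hmod := hp.card_modEq_card_fixedPoints Ω
  by_contra! hcon
  have : MulAction.fixedPoints (Subgroup.zpowers t) Ω = {a} := by
    ext x
    constructor
    · intro hx
      by_contra hxa
      exact hcon x hxa (hx ⟨t, Subgroup.mem_zpowers t⟩)
    · rintro rfl ⟨g, hg⟩
      exact MulAction.mem_stabilizer_iff.mp
        (Subgroup.zpowers_le.mpr (MulAction.mem_stabilizer_iff.mpr ha) hg)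
  rw [this, Nat.card_unique (α := ({a} : Set Ω))] at hmod
  rw [Nat.even_iff] at heven
  unfold Nat.ModEq at hmod
  omega

/-- The number of involutions with fixed points interchanging a given pair, and the existence
of one more interchanging involution. -/
theorem swapper_count (h2 : TwoTrans G Ω) (heven : Even (Nat.card Ω))
    (huniq : ∀ a b : Ω, a ≠ b → ∃ t : G, (orderOf t = 2 ∧ t • a = a ∧ t • b = b) ∧
      ∀ t' : G, orderOf t' = 2 → t' • a = a → t' • b = b → t' = t)
    (htwo : ∀ t : G, orderOf t = 2 → ∀ a b c : Ω, a ≠ b → t • a = a → t • b = b → t • c = c →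
      c = a ∨ c = b)
    {a b : Ω} (hab : a ≠ b) :
    2 * {t : G | orderOf t = 2 ∧ t • a = b ∧ ∃ c : Ω, t • c = c}.ncard + 2 = Nat.card Ω := by
  haveI := Fintype.ofFinite G
  haveI := Fintype.ofFinite Ω
  let I : Finset G := Finset.univ.filter fun t => orderOf t = 2 ∧ ∃ c : Ω, t • c = c
  let P : Finset (Ω × Ω) := (Finset.univ : Finset Ω).offDiag
  set n := Nat.card Ω with hn
  have hncard : n = Fintype.card Ω := Nat.card_eq_fintype_card
  have hfix : ∀ t ∈ I, (Finset.univ.filter fun c : Ω => t • c = c).card = 2 := by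
    intro t ht
    obtain ⟨ht2, c, hc⟩ := (Finset.mem_filter.mp ht).2
    obtain ⟨d, hdc, hd⟩ := exists_second_fixed heven ht2 hc
    have : (Finset.univ.filter fun x : Ω => t • x = x) = {c, d} := by
      ext x
      simp only [Finset.mem_filter, Finset.mem_univ, true_and, Finset.mem_insert,
        Finset.mem_singleton]
      constructor
      · exact fun hx => htwo t ht2 c d x hdc.symm hc hd hx
      · rintro (rfl | rfl)
        exacts [hc, hd]
    rw [this, Finset.card_pair hdc.symm]
  -- pairs fixed pointwise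
  have hfixpair : ∀ t ∈ I, (P.filter fun p => t • p.1 = p.1 ∧ t • p.2 = p.2).card = 2 := by
    intro t ht
    have : (P.filter fun p => t • p.1 = p.1 ∧ t • p.2 = p.2) =
        (Finset.univ.filter fun c : Ω => t • c = c).offDiag := by
      ext p
      simp [P, Finset.mem_offDiag]
      tauto
    rw [this, Finset.offDiag_card, hfix t ht]
  have hfixone : ∀ p ∈ P, (I.filter fun t => t • p.1 = p.1 ∧ t • p.2 = p.2).card = 1 := by
    intro p hp
    have hne : p.1 ≠ p.2 := by simpa [P, Finset.mem_offDiag] using hp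
    obtain ⟨t, ⟨ht2, ht1, ht3⟩, hu⟩ := huniq p.1 p.2 hne
    rw [Finset.card_eq_one]
    refine ⟨t, ?_⟩
    ext t'
    simp only [Finset.mem_filter, Finset.mem_singleton]
    constructor
    · rintro ⟨ht', h1, h3⟩
      exact hu t' (Finset.mem_filter.mp ht').2.1 h1 h3
    · rintro rfl
      exact ⟨Finset.mem_filter.mpr ⟨Finset.mem_univ _, ht2, p.1, ht1⟩, ht1, ht3⟩
  have hI : I.card * 2 = P.card := by
    have := Finset.sum_card_bipartiteAbove_eq_sum_card_bipartiteBelow
      (r := fun (t : G) (p : Ω × Ω) => t • p.1 = p.1 ∧ t • p.2 = p.2) (s := I) (t := P)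
    simp only [Finset.bipartiteAbove, Finset.bipartiteBelow] at this
    rw [Finset.sum_const_nat hfixpair, Finset.sum_const_nat hfixone, mul_one] at this
    exact this
  have hswappair : ∀ t ∈ I, (P.filter fun p => t • p.1 = p.2).card = n - 2 := by
    intro t ht
    have himg : (P.filter fun p => t • p.1 = p.2) =
        (Finset.univ.filter fun c : Ω => ¬ t • c = c).image (fun c => (c, t • c)) := by
      ext p
      obtain ⟨c, e⟩ := p
      simp only [P, Finset.mem_filter, Finset.mem_offDiag, Finset.mem_univ, true_and,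
        Finset.mem_image, Prod.mk.injEq]
      constructor
      · rintro ⟨hne, he⟩
        exact ⟨c, fun h => hne (h.symm.trans he), rfl, he⟩
      · rintro ⟨c', hc', rfl, rfl⟩
        exact ⟨fun h => hc' h.symm, rfl⟩
    have hsum := Finset.card_filter_add_card_filter_not (s := (Finset.univ : Finset Ω))
      (fun c => t • c = c)
    rw [hfix t ht, Finset.card_univ] at hsum
    rw [himg, Finset.card_image_of_injective _ (fun x y h => (Prod.ext_iff.mp h).1)]
    omega
  set s := (I.filter fun t => t • a = b).card with hs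
  have hswapone : ∀ p ∈ P, (I.filter fun t => t • p.1 = p.2).card = s := by
    intro p hp
    have hne : p.1 ≠ p.2 := by simpa [P, Finset.mem_offDiag] using hp
    obtain ⟨g, hga, hgb⟩ := h2 a b p.1 p.2 hab hne
    rw [hs]
    refine (Finset.card_bij (fun t _ => g * t * g⁻¹) ?_ ?_ ?_).symm
    · intro t ht
      simp only [I, Finset.mem_filter, Finset.mem_univ, true_and] at ht ⊢
      obtain ⟨⟨ht2, c, hc⟩, htab⟩ := ht
      refine ⟨⟨(conj_orderOf g t).trans ht2, g • c, ?_⟩, ?_⟩
      · rw [mul_smul, mul_smul, inv_smul_smul, hc]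
      · rw [mul_smul, mul_smul, ← hga, inv_smul_smul, htab, hgb]
    · intro x _ y _ h
      simpa using h
    · intro u hu
      refine ⟨g⁻¹ * u * g, ?_, by group⟩
      simp only [I, Finset.mem_filter, Finset.mem_univ, true_and] at hu ⊢
      obtain ⟨⟨hu2, c, hc⟩, huab⟩ := hu
      refine ⟨⟨?_, g⁻¹ • c, ?_⟩, ?_⟩
      · rw [← hu2]; simpa using conj_orderOf g⁻¹ u
      · rw [mul_smul, mul_smul, smul_inv_smul, hc]
      · rw [mul_smul, mul_smul, hga, huab, inv_smul_eq_iff, hgb]
  have hcount : I.card * (n - 2) = P.card * s := by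
    have := Finset.sum_card_bipartiteAbove_eq_sum_card_bipartiteBelow
      (r := fun (t : G) (p : Ω × Ω) => t • p.1 = p.2) (s := I) (t := P)
    simp only [Finset.bipartiteAbove, Finset.bipartiteBelow] at this
    rwa [Finset.sum_const_nat hswappair, Finset.sum_const_nat hswapone] at this
  have hPpos : 0 < P.card := Finset.card_pos.mpr ⟨(a, b), by simp [P, hab]⟩
  have hIpos : 0 < I.card := by omega
  have hset : {t : G | orderOf t = 2 ∧ t • a = b ∧ ∃ c : Ω, t • c = c}.ncard = s := by
    rw [hs, ← Set.ncard_coe_finset]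
    congr 1
    ext t
    simp [I]
    tauto
  rw [hset]
  have h1n : 2 ≤ n := by
    have : ({a, b} : Finset Ω).card ≤ Fintype.card Ω := Finset.card_le_univ _
    rw [Finset.card_pair hab] at this
    omega
  rw [← hI, mul_assoc] at hcount
  have := Nat.eq_of_mul_eq_mul_left hIpos hcount
  omega

theorem exists_fpf_swapper (h2 : TwoTrans G Ω) {j : G} (hj : orderOf j = 2)
    (hfpf : ∀ x : Ω, j • x ≠ x) {a b : Ω} (hab : a ≠ b) :
    ∃ t : G, orderOf t = 2 ∧ t • a = b ∧ ∀ x : Ω, t • x ≠ x := by
  obtain ⟨g, hga, hgb⟩ := h2 a (j • a) a b (Ne.symm (hfpf a)) hab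
  refine ⟨g * j * g⁻¹, (conj_orderOf g j).trans hj, ?_, fun x hx => hfpf (g⁻¹ • x) ?_⟩
  · rw [mul_smul, mul_smul]
    conv_lhs => rw [show g⁻¹ • a = a by rw [inv_smul_eq_iff, hga]]
    exact hgb
  · rwa [mul_smul, mul_smul, smul_eq_iff_eq_inv_smul] at hx

end Cfsg.Agent.CycZProd
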