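import Cfsg.Agent.CycZProd.Top

/-!
# The induction over normal subgroups
-/

set_option autoImplicit false

namespace Cfsg.Agent.CycZProd

universe u

theorem radTrivial_of_normal {G : Type*} [Group G] [Finite G] (hrad : RadTrivial G)
    {K : Subgroup G} (hK : K.Normal) : RadTrivial K := by
  classical
  intro N hN hNs
  haveI := hK
  obtain ⟨R, -, ⟨hR, hRs⟩, hmax⟩ := exists_maximal_ge_of_wellFoundedGT
    (fun R : Subgroup K => R.Normal ∧ Group.IsSolvable R) ⊥ ⟨inferInstance, inferInstance⟩
  haveI := hR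
  have hgreat : ∀ S : Subgroup K, S.Normal → Group.IsSolvable S → S ≤ R := by
    intro S hS hSs
    haveI := hS
    haveI : Group.IsSolvable (R ⊔ S : Subgroup K) := by
      haveI := hRs
      haveI := hSs
      haveI : Group.IsSolvable (S.map (QuotientGroup.mk' R)) :=
        Group.isSolvable_of_surjective ((QuotientGroup.mk' R).subgroupMap_surjective S)
      refine Group.isSolvable_of_ker_le_range
        (Subgroup.inclusion (le_sup_left : R ≤ R ⊔ S))
        ((MonoidHom.codRestrict ((QuotientGroup.mk' R).comp (R ⊔ S : Subgroup K).subtype)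
          (S.map (QuotientGroup.mk' R)) (fun x => ?_))) ?_
      · have hx : QuotientGroup.mk' R (x : K) ∈ (R ⊔ S).map (QuotientGroup.mk' R) :=
          Subgroup.mem_map_of_mem _ x.2
        rw [Subgroup.map_sup, (Subgroup.map_eq_bot_iff R).mpr (by rw [QuotientGroup.ker_mk']),
          bot_sup_eq] at hx
        exact hx
      · intro x hx
        have hx' : QuotientGroup.mk' R (x : K) = 1 := congrArg Subtype.val (MonoidHom.mem_ker.mp hx)
        rw [QuotientGroup.mk'_apply, QuotientGroup.eq_one_iff] at hx'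
        exact ⟨⟨x, hx'⟩, Subtype.ext rfl⟩
    exact le_sup_right.trans (hmax ⟨inferInstance, inferInstance⟩ le_sup_left)
  have hRbot : R.map K.subtype = ⊥ := by
    apply hrad
    · refine ⟨fun x hx g => ?_⟩
      obtain ⟨r, hr, rfl⟩ := hx
      let φ : K ≃* K := MulAut.conjNormal g
      haveI : Group.IsSolvable (R.map φ.toMonoidHom) := by
        haveI := hRs
        exact Group.isSolvable_of_surjective (φ.toMonoidHom.subgroupMap_surjective R)
      have hn : (R.map φ.toMonoidHom).Normal := hR.map φ.toMonoidHom φ.surjective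
      refine ⟨φ r, hgreat _ hn inferInstance ⟨r, hr, rfl⟩, ?_⟩
      exact MulAut.conjNormal_apply g r
    · haveI := hRs
      exact Group.isSolvable_of_surjective (K.subtype.subgroupMap_surjective R)
  rw [Subgroup.map_eq_bot_iff_of_injective _ K.subtype_injective] at hRbot
  rw [eq_bot_iff, ← hRbot]
  exact hgreat N hN hNs

theorem exists_minimal_normal {G : Type*} [Group G] [Finite G] {N : Subgroup G} (hN : N.Normal)
    (hN1 : N ≠ ⊥) : ∃ X : Subgroup G, X ≤ N ∧ X.Normal ∧ X ≠ ⊥ ∧
      ∀ Y : Subgroup G, Y.Normal → Y ≤ X → Y ≠ ⊥ → Y = X := by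
  obtain ⟨X, -, ⟨hX, hX1, hXN⟩, hmin⟩ := exists_minimal_le_of_wellFoundedLT
    (fun X : Subgroup G => X.Normal ∧ X ≠ ⊥ ∧ X ≤ N) N ⟨hN, hN1, le_rfl⟩
  exact ⟨X, hXN, hX, hX1, fun Y hY hYX hY1 =>
    le_antisymm hYX (hmin ⟨hY, hY1, hYX.trans hXN⟩ hYX)⟩

/-- The statement proved by induction. -/
def GoodBelow (G : Type u) [Group G] [Finite G] : Prop :=
  ∀ (H : Type u) [Group H] [Finite H], Nat.card H < Nat.card G → ¬ Group.IsSolvable H →
    RadTrivial H → ∀ A B : Subgroup H, IsCyclic A → IsZGroup B →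
      (∀ g : H, ∃ a ∈ A, ∃ b ∈ B, g = a * b) → Good H A B

theorem good_subgroup {G : Type u} [Group G] [Finite G] (IH : GoodBelow G) {K : Subgroup G}
    (hK : K ≠ ⊤) (hns : ¬ Group.IsSolvable K) (hrad : RadTrivial K) {A B : Subgroup G}
    (hA : IsCyclic A) (hB : IsZGroup B)
    (hfac : ∀ k ∈ K, ∃ a ∈ A ⊓ K, ∃ b ∈ B ⊓ K, k = a * b) :
    Good K (A.subgroupOf K) (B.subgroupOf K) := by
  have hlt : Nat.card K < Nat.card G := by
    rcases lt_or_eq_of_le K.card_le_card_group with h | h
    · exact h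
    · exact absurd (Subgroup.eq_top_of_card_eq K h) hK
  refine IH K hlt hns hrad _ _ ?_ ?_ fun k => ?_
  · haveI : IsCyclic (A ⊓ K : Subgroup G) := Subgroup.isCyclic_of_le inf_le_left
    rw [← Subgroup.inf_subgroupOf_right]
    exact isCyclic_of_surjective _
      (Subgroup.subgroupOfEquivOfLe (inf_le_right : A ⊓ K ≤ K)).symm.surjective
  · rw [← Subgroup.inf_subgroupOf_right]
    haveI : IsZGroup (B ⊓ K : Subgroup G) :=
      IsZGroup.of_injective (f := Subgroup.inclusion inf_le_left) (Subgroup.inclusion_injective _)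
    exact isZGroup_of_equiv (Subgroup.subgroupOfEquivOfLe (inf_le_right : B ⊓ K ≤ K))
  · obtain ⟨a, ha, b, hb, h⟩ := hfac k k.2
    exact ⟨⟨a, ha.2⟩, ha.1, ⟨b, hb.2⟩, hb.1, Subtype.ext h⟩

/-- A normal subgroup maximal among those avoiding a minimal normal subgroup is a product. -/
theorem kernel_factor {G : Type u} [Group G] [Finite G] (IH : GoodBelow G) (hrad : RadTrivial G)
    {A B : Subgroup G} (hA : IsCyclic A) (hB : IsZGroup B)
    (hAB : ∀ g : G, ∃ a ∈ A, ∃ b ∈ B, g = a * b) {X Y : Subgroup G} (hX : X.Normal)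
    (hX1 : X ≠ ⊥) (hY : Y.Normal) (hY1 : Y ≠ ⊥) (hXY : X ⊓ Y = ⊥)
    (hXmin : ∀ W : Subgroup G, W.Normal → W ≤ X → W ≠ ⊥ → W = X) :
    ∃ K : Subgroup G, K.Normal ∧ Y ≤ K ∧ K ⊓ X = ⊥ ∧
      Good K (A.subgroupOf K) (B.subgroupOf K) := by
  classical
  obtain ⟨K, -, ⟨hK, hYK, hKX⟩, hmax⟩ := exists_maximal_ge_of_wellFoundedGT
    (fun K : Subgroup G => K.Normal ∧ Y ≤ K ∧ K ⊓ X = ⊥) Y ⟨hY, le_rfl, by rw [inf_comm, hXY]⟩
  haveI := hK
  haveI := hX
  have hXs : ¬ Group.IsSolvable X := fun h => hX1 (hrad X hX h)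
  let π := QuotientGroup.mk' K
  have hπX : Function.Injective (π.comp X.subtype) := by
    rw [injective_iff_map_eq_one]
    intro x hx
    apply Subtype.ext
    have h : (x : G) ∈ K ⊓ X := ⟨(QuotientGroup.eq_one_iff _).mp hx, x.2⟩
    rw [hKX, Subgroup.mem_bot] at h
    exact h
  have hqns : ¬ Group.IsSolvable (G ⧸ K) := fun h => by
    haveI := h
    exact hXs (Group.isSolvable_of_isSolvable_injective hπX)
  have hqrad : RadTrivial (G ⧸ K) := by
    intro N hN hNs
    haveI := hNs
    set K' := N.comap π with hK'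
    have hK'n : K'.Normal := hN.comap π
    have hle : K ≤ K' := by
      intro x hx
      rw [hK', Subgroup.mem_comap, show π x = 1 from (QuotientGroup.eq_one_iff x).mpr hx]
      exact one_mem N
    by_cases h : K' ⊓ X = ⊥
    · have : K' = K := le_antisymm (hmax ⟨hK'n, hYK.trans hle, h⟩ hle) hle
      rw [eq_bot_iff]
      intro x hx
      obtain ⟨g, rfl⟩ := QuotientGroup.mk'_surjective K x
      have hg : g ∈ K' := hx
      rw [this] at hg
      exact Subgroup.mem_bot.mpr ((QuotientGroup.eq_one_iff g).mpr hg)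
    · exfalso
      have hXK : X ≤ K' := by
        rw [← hXmin _ (@Subgroup.normal_inf_normal _ _ K' X hK'n hX) inf_le_right h]
        exact inf_le_left
      refine hXs ?_
      exact Group.isSolvable_of_isSolvable_injective
        (f := MonoidHom.codRestrict (π.comp X.subtype) N fun x => hXK x.2)
        (fun a b hab => hπX (congrArg Subtype.val hab))
  have hK1 : K ≠ ⊥ := fun h => hY1 (le_bot_iff.mp (h ▸ hYK))
  have hlt : Nat.card (G ⧸ K) < Nat.card G := by
    rw [Subgroup.card_eq_card_quotient_mul_card_subgroup K]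
    exact lt_mul_of_one_lt_right Nat.card_pos (K.one_lt_card_iff_ne_bot.mpr hK1)
  haveI := hA
  haveI := hB
  have hgood := IH (G ⧸ K) hlt hqns hqrad (A.map π) (B.map π)
    (isCyclic_of_surjective _ (π.subgroupMap_surjective A))
    (IsZGroup.of_surjective (π.subgroupMap_surjective B)) (fun q => by
      obtain ⟨g, rfl⟩ := QuotientGroup.mk'_surjective K q
      obtain ⟨a, ha, b, hb, rfl⟩ := hAB g
      exact ⟨π a, Subgroup.mem_map_of_mem _ ha, π b, Subgroup.mem_map_of_mem _ hb, map_mul π a b⟩)
  obtain ⟨-, -, -, -, -, -, -, -, hdisj⟩ := hgood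
  refine ⟨K, hK, hYK, hKX, good_subgroup IH (fun h => hX1 ?_) (fun h => ?_)
    (radTrivial_of_normal hrad hK) hA hB (fun k hk => ?_)⟩
  · rw [h, top_inf_eq] at hKX
    exact hKX
  · exact hK1 (hrad K hK h)
  · obtain ⟨a, ha, b, hb, rfl⟩ := hAB k
    have hk' : π a * π b = 1 := by
      rw [← map_mul]
      exact (QuotientGroup.eq_one_iff _).mpr hk
    have hmem : π a ∈ A.map π ⊓ B.map π := Subgroup.mem_inf.mpr ⟨Subgroup.mem_map_of_mem _ ha, by
      rw [eq_inv_of_mul_eq_one_left hk']
      exact inv_mem (Subgroup.mem_map_of_mem _ hb)⟩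
    rw [hdisj, Subgroup.mem_bot] at hmem
    rw [hmem, one_mul] at hk'
    exact ⟨a, ⟨ha, (QuotientGroup.eq_one_iff _).mp hmem⟩, b,
      ⟨hb, (QuotientGroup.eq_one_iff _).mp hk'⟩, rfl⟩

theorem good_even {G : Type*} [Group G] [Finite G] {A B : Subgroup G} (h : Good G A B) :
    2 ∣ Nat.card A := by
  obtain ⟨p, hp, hp3, hA, -⟩ := h
  have := hp.eq_two_or_odd.resolve_left (by omega)
  omega

theorem good_step {G : Type u} [Group G] [Finite G] (IH : GoodBelow G)
    (hns : ¬ Group.IsSolvable G) (hrad : RadTrivial G) (A B : Subgroup G) (hA : IsCyclic A)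
    (hB : IsZGroup B) (hAB : ∀ g : G, ∃ a ∈ A, ∃ b ∈ B, g = a * b) : Good G A B := by
  classical
  haveI := hA
  haveI := hB
  haveI := Fact.mk Nat.prime_two
  have hBtop : B ≠ ⊤ := fun h => hns (by
    subst h
    exact Group.isSolvable_of_surjective (f := (⊤ : Subgroup G).subtype)
      (fun g => ⟨⟨g, Subgroup.mem_top g⟩, rfl⟩))
  obtain ⟨M, hM, hBM⟩ := (eq_top_or_exists_le_coatom B).resolve_left hBtop
  by_cases hcore : M.normalCore = ⊥
  · exact good_of_core_free hns hrad hA hB hAB hM hBM hcore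
  exfalso
  by_cases hdisj : ∃ S T : Subgroup G, S.Normal ∧ T.Normal ∧ S ≠ ⊥ ∧ T ≠ ⊥ ∧ S ⊓ T = ⊥
  · obtain ⟨S, T, hS, hT, hS1, hT1, hST⟩ := hdisj
    obtain ⟨X, hXS, hX, hX1, hXmin⟩ := exists_minimal_normal hS hS1
    obtain ⟨Y, hYT, hY, hY1, hYmin⟩ := exists_minimal_normal hT hT1
    have hXY : X ⊓ Y = ⊥ := by
      rw [eq_bot_iff, ← hST]
      exact inf_le_inf hXS hYT
    obtain ⟨K1, hK1, hYK1, -, hg1⟩ := kernel_factor IH hrad hA hB hAB hX hX1 hY hY1 hXY hXmin
    obtain ⟨K2, hK2, -, hKY, hg2⟩ :=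
      kernel_factor IH hrad hA hB hAB hY hY1 hX hX1 (by rw [inf_comm, hXY]) hYmin
    have h12 : K1 ⊓ K2 = ⊥ := by
      by_contra h
      obtain ⟨W, hW12, hW, hW1, -⟩ := exists_minimal_normal
        (@Subgroup.normal_inf_normal _ _ K1 K2 hK1 hK2) h
      haveI : IsZGroup (B.subgroupOf K1) := by
        rw [← Subgroup.inf_subgroupOf_right]
        haveI : IsZGroup (B ⊓ K1 : Subgroup G) :=
          IsZGroup.of_injective (f := Subgroup.inclusion inf_le_left)
            (Subgroup.inclusion_injective _)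
        exact isZGroup_of_equiv (Subgroup.subgroupOfEquivOfLe (inf_le_right : B ⊓ K1 ≤ K1))
      have hbot : ∀ Z : Subgroup G, Z ≤ K1 → Z ≠ ⊥ → Z.subgroupOf K1 ≠ ⊥ := fun Z hZ hZ1 h' =>
        hZ1 (by rwa [Subgroup.subgroupOf_eq_bot, disjoint_iff, inf_eq_left.mpr hZ] at h')
      have hWK : W ≤ K1 := hW12.trans inf_le_left
      have hmeet := hg1.normal_meet (radTrivial_of_normal hrad hK1)
        (hW.subgroupOf K1) (hY.subgroupOf K1) (hbot W hWK hW1) (hbot Y hYK1 hY1)
      have hWY : W ⊓ Y ≠ ⊥ := by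
        intro h'
        apply hmeet
        rw [eq_bot_iff]
        intro x hx
        have hx' : (x : G) ∈ W ⊓ Y := ⟨hx.1, hx.2⟩
        rw [h', Subgroup.mem_bot] at hx'
        exact Subgroup.mem_bot.mpr (Subtype.ext hx')
      have hYK2 : Y ≤ K2 := by
        rw [← hYmin _ (@Subgroup.normal_inf_normal _ _ W Y hW hY) inf_le_right hWY]
        exact inf_le_left.trans (hW12.trans inf_le_right)
      exact hY1 (le_bot_iff.mp (hKY ▸ le_inf hYK2 le_rfl))
    obtain ⟨u, hu⟩ := exists_prime_orderOf_dvd_card' 2 (good_even hg1)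
    obtain ⟨v, hv⟩ := exists_prime_orderOf_dvd_card' 2 (good_even hg2)
    have hu' : orderOf ((u : K1) : G) = 2 := by
      rw [Subgroup.orderOf_coe, Subgroup.orderOf_coe, hu]
    have hv' : orderOf ((v : K2) : G) = 2 := by
      rw [Subgroup.orderOf_coe, Subgroup.orderOf_coe, hv]
    have heq := involution_unique_of_cyclic hA u.2 v.2 hu' hv'
    have heq' : ((v : K2) : G) = ((u : K1) : G) := heq
    have hmem : ((u : K1) : G) ∈ K1 ⊓ K2 := Subgroup.mem_inf.mpr
      ⟨(u : K1).2, by rw [← heq']; exact (v : K2).2⟩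
    rw [h12, Subgroup.mem_bot] at hmem
    rw [hmem, orderOf_one] at hu'
    exact absurd hu' (by decide)
  · push Not at hdisj
    obtain ⟨T, hTM, hT, hT1, -⟩ := exists_minimal_normal (Subgroup.normalCore_normal M) hcore
    have hTM' : T ≤ M := hTM.trans M.normalCore_le
    haveI := hT
    have hradT := radTrivial_of_normal hrad hT
    have hTs : ¬ Group.IsSolvable T := fun h => hT1 (hrad T hT h)
    have hcent : Subgroup.centralizer (T : Set G) = ⊥ := by
      by_contra h
      have hne := hdisj T (Subgroup.centralizer (T : Set G)) hT inferInstance hT1 h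
      apply hne
      refine hrad _ (@Subgroup.normal_inf_normal _ _ T _ hT inferInstance) ?_
      exact Group.isSolvable_of_comm fun x y =>
        Subtype.ext ((Subgroup.mem_centralizer_iff.mp y.2.2) x x.2.1)
    have hMns : ¬ Group.IsSolvable M := fun h => hTs (by
      haveI := h
      exact Group.isSolvable_of_isSolvable_injective (Subgroup.inclusion_injective hTM'))
    have hMrad : RadTrivial M := by
      intro N hN hNs
      haveI := hN
      haveI := hNs
      haveI : (T.subgroupOf M).Normal := hT.subgroupOf M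
      have hd : Disjoint N (T.subgroupOf M) := by
        rw [disjoint_iff]
        let f : T →* M := Subgroup.inclusion hTM'
        let L : Subgroup T := N.comap f
        haveI : Group.IsSolvable L :=
          Group.isSolvable_of_isSolvable_injective
            (f := MonoidHom.codRestrict (f.comp L.subtype) N fun x => x.2)
            (fun a b hab => Subtype.ext (Subgroup.inclusion_injective hTM'
              (congrArg Subtype.val hab :)))
        have hL : L = ⊥ := hradT L (hN.comap f) inferInstance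
        rw [eq_bot_iff]
        intro x hx
        have hxL : (⟨(x : G), hx.2⟩ : T) ∈ L := hx.1
        rw [hL, Subgroup.mem_bot] at hxL
        exact Subgroup.mem_bot.mpr (Subtype.ext (congrArg Subtype.val hxL :))
      rw [eq_bot_iff]
      intro x hx
      have hxc : (x : G) ∈ Subgroup.centralizer (T : Set G) := by
        rw [Subgroup.mem_centralizer_iff]
        intro t ht
        exact (congrArg Subtype.val (Subgroup.commute_of_normal_of_disjoint N _ hN inferInstance hd
          x ⟨t, hTM' ht⟩ hx ht).eq).symm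
      rw [hcent, Subgroup.mem_bot] at hxc
      exact Subgroup.mem_bot.mpr (Subtype.ext hxc)
    have hgM := good_subgroup IH hM.1 hMns hMrad hA hB (fun m hm => by
      obtain ⟨a, ha, b, hb, rfl⟩ := hAB m
      refine ⟨a, ⟨ha, ?_⟩, b, ⟨hb, hBM hb⟩, rfl⟩
      have := mul_mem hm (inv_mem (hBM hb))
      rwa [mul_inv_cancel_right] at this)
    haveI : IsZGroup (B.subgroupOf M) :=
      isZGroup_of_equiv (Subgroup.subgroupOfEquivOfLe hBM)
    obtain ⟨p, P, hp, hPp, hMc, hP1, hPB, hPn, hPT⟩ := hgM.normal_contains hMrad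
    haveI := Fact.mk hp
    have hTne : T.subgroupOf M ≠ ⊥ := by
      intro h
      rw [Subgroup.subgroupOf_eq_bot, disjoint_iff, inf_eq_left.mpr hTM'] at h
      exact hT1 h
    let PG : Subgroup G := P.map M.subtype
    have hPGcard : Nat.card PG = p := by
      rw [Subgroup.card_map_of_injective M.subtype_injective, hPp]
    have hPGT : PG ≤ T := by
      rintro _ ⟨x, hx, rfl⟩
      exact hPT _ (hT.subgroupOf M) hTne hx
    have hPGn : B ≤ Subgroup.normalizer (PG : Set G) := by
      have hle : ∀ b ∈ B, ∀ x ∈ PG, b * x * b⁻¹ ∈ PG := by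
        rintro b hb _ ⟨x, hx, rfl⟩
        exact ⟨_, hPn ⟨b, hBM hb⟩ hb x hx, rfl⟩
      intro b hb
      rw [Subgroup.mem_normalizer_iff]
      intro x
      refine ⟨hle b hb x, fun hx => ?_⟩
      have := hle b⁻¹ (inv_mem hb) _ hx
      rwa [inv_inv, show b⁻¹ * (b * x * b⁻¹) * b = x by group] at this
    have hfacT : (Nat.card T).factorization p = 1 := by
      have hp2 := hp.two_le
      have h1 : 1 ≤ (Nat.card T).factorization p :=
        hp.factorization_pos_of_dvd Nat.card_pos.ne' (hPGcard ▸ Subgroup.card_dvd_of_le hPGT)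
      have h2 : (Nat.card T).factorization p ≤ (Nat.card M).factorization p :=
        (Nat.factorization_le_iff_dvd Nat.card_pos.ne' Nat.card_pos.ne').mpr
          (Subgroup.card_dvd_of_le hTM') p
      have e1 : (p + 1).factorization p = 0 := Nat.factorization_eq_zero_of_not_dvd fun h => by
        have h' := Nat.le_of_dvd one_pos ((Nat.dvd_add_right dvd_rfl).mp h)
        omega
      have e2 : (p - 1).factorization p = 0 := Nat.factorization_eq_zero_of_not_dvd fun h => by
        have h' := Nat.le_of_dvd (by omega) h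
        omega
      rw [hMc, Nat.factorization_mul (by omega) (mul_ne_zero (by omega) (by omega)),
        Nat.factorization_mul (by omega) (by omega)] at h2
      simp only [Finsupp.add_apply] at h2
      rw [e1, e2, hp.factorization_self] at h2
      omega
    let SP : Sylow p T := Sylow.ofCard (PG.subgroupOf T) (by
      rw [hfacT, pow_one, Nat.card_congr (Subgroup.subgroupOfEquivOfLe hPGT).toEquiv, hPGcard])
    have hSP : (SP : Subgroup T) = PG.subgroupOf T := rfl
    set NP := Subgroup.normalizer (PG : Set G) with hNP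
    have hcoreN : NP.normalCore = ⊥ := by
      by_contra h
      have h' := hdisj T NP.normalCore hT (Subgroup.normalCore_normal NP) hT1 h
      obtain ⟨W, hW, hWn, hW1, -⟩ :=
        exists_minimal_normal (@Subgroup.normal_inf_normal _ _ T _ hT (Subgroup.normalCore_normal NP)) h'
      have hradW := radTrivial_of_normal hrad hWn
      have hWT : W ≤ T := hW.trans inf_le_left
      have hWP : W ≤ NP := (hW.trans inf_le_right).trans NP.normalCore_le
      haveI : (W.subgroupOf T).Normal := hWn.subgroupOf T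
      have hWne : W.subgroupOf T ≠ ⊥ := by
        intro hh
        rw [Subgroup.subgroupOf_eq_bot, disjoint_iff, inf_eq_left.mpr hWT] at hh
        exact hW1 hh
      have hPW : PG ≤ W := by
        rintro _ ⟨x, hx, rfl⟩
        exact hPT (W.subgroupOf M) (hWn.subgroupOf M) (fun hh => by
          rw [Subgroup.subgroupOf_eq_bot, disjoint_iff, inf_eq_left.mpr (hWT.trans hTM')] at hh
          exact hW1 hh) hx
      haveI : Group.IsSolvable (PG.subgroupOf W) := by
        haveI : IsCyclic PG := isCyclic_of_prime_card hPGcard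
        haveI : Group.IsSolvable PG :=
          Group.isSolvable_of_comm (IsMulCommutative.is_comm.comm)
        exact Group.isSolvable_of_surjective
          (f := (Subgroup.subgroupOfEquivOfLe hPW).symm.toMonoidHom)
          (Subgroup.subgroupOfEquivOfLe hPW).symm.surjective
      have hnorm : (PG.subgroupOf W).Normal := by
        refine ⟨fun x hx g => ?_⟩
        exact (Subgroup.mem_normalizer_iff.mp (hWP g.2) x).mp hx
      have := hradW _ hnorm inferInstance
      rw [Subgroup.subgroupOf_eq_bot, disjoint_iff, inf_eq_left.mpr hPW] at this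
      rw [this, Subgroup.card_bot] at hPGcard
      exact hp.one_lt.ne hPGcard
    have hAM : A ≤ M := by
      intro a ha
      -- move `PG` by an element of `T`
      let Q : Sylow p T := Sylow.ofCard ((PG.map (MulAut.conj a).toMonoidHom).subgroupOf T) (by
        have hle : PG.map (MulAut.conj a).toMonoidHom ≤ T := by
          rintro _ ⟨x, hx, rfl⟩
          exact hT.conj_mem x (hPGT hx) a
        rw [hfacT, pow_one, Nat.card_congr (Subgroup.subgroupOfEquivOfLe hle).toEquiv,
          Subgroup.card_map_of_injective (MulAut.conj a).injective, hPGcard])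
      obtain ⟨t, ht⟩ := MulAction.exists_smul_eq T SP Q
      have hkey : ∀ x ∈ PG, ((t : G) * x * (t : G)⁻¹) ∈ PG.map (MulAut.conj a).toMonoidHom := by
        intro x hx
        have h1 : (t * ⟨x, hPGT hx⟩ * t⁻¹) ∈ Q := by
          rw [← ht, ← SetLike.mem_coe, Sylow.coe_smul]
          exact Set.smul_mem_smul_set (a := MulAut.conj t) (show (⟨x, hPGT hx⟩ : T) ∈ SP from hx)
        exact h1
      have hn : a⁻¹ * (t : G) ∈ NP := by
        have hin : ∀ x ∈ PG, (a⁻¹ * t) * x * (a⁻¹ * (t : G))⁻¹ ∈ PG := by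
          intro x hx
          obtain ⟨y, hy, hy'⟩ := hkey x hx
          change a * y * a⁻¹ = _ at hy'
          have : (a⁻¹ * t) * x * (a⁻¹ * (t : G))⁻¹ = y := by
            calc (a⁻¹ * t) * x * (a⁻¹ * (t : G))⁻¹ = a⁻¹ * (t * x * (t : G)⁻¹) * a := by group
              _ = a⁻¹ * (a * y * a⁻¹) * a := by rw [hy']
              _ = y := by group
          rw [this]
          exact hy
        rw [hNP]
        haveI := Fintype.ofFinite PG
        exact Subgroup.mem_normalizer_fintype (fun x hx => hin x hx)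
      obtain ⟨a', ha', b', hb', htab⟩ := hAB (t : G)
      have ha'M : a' ∈ M := by
        have := mul_mem (hTM' t.2) (inv_mem (hBM hb'))
        rwa [htab, mul_inv_cancel_right] at this
      have hu : a⁻¹ * a' ∈ NP := by
        have := mul_mem hn (inv_mem (hPGn hb'))
        rwa [htab, ← mul_assoc, mul_inv_cancel_right] at this
      have hcore' : a⁻¹ * a' ∈ NP.normalCore := by
        intro g
        obtain ⟨a₁, ha₁, b₁, hb₁, hg⟩ := hAB g⁻¹
        have hg' : g = b₁⁻¹ * a₁⁻¹ := by rw [← inv_inv g, hg, mul_inv_rev]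
        have hc : a₁ * (a⁻¹ * a') = (a⁻¹ * a') * a₁ := congrArg Subtype.val
          (IsMulCommutative.is_comm.comm (⟨a₁, ha₁⟩ : A) ⟨_, mul_mem (inv_mem ha) ha'⟩)
        have : g * (a⁻¹ * a') * g⁻¹ = b₁⁻¹ * (a⁻¹ * a') * b₁ := by
          rw [hg']
          calc b₁⁻¹ * a₁⁻¹ * (a⁻¹ * a') * (b₁⁻¹ * a₁⁻¹)⁻¹
              = b₁⁻¹ * a₁⁻¹ * ((a⁻¹ * a') * a₁) * b₁ := by group
            _ = b₁⁻¹ * a₁⁻¹ * (a₁ * (a⁻¹ * a')) * b₁ := by rw [hc]
            _ = b₁⁻¹ * (a⁻¹ * a') * b₁ := by group
        rw [this]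
        exact mul_mem (mul_mem (inv_mem (hPGn hb₁)) hu) (hPGn hb₁)
      rw [hcoreN, Subgroup.mem_bot, inv_mul_eq_one] at hcore'
      rwa [hcore']
    apply hM.1
    rw [eq_top_iff]
    intro g _
    obtain ⟨a, ha, b, hb, rfl⟩ := hAB g
    exact mul_mem (hAM ha) (hBM hb)

theorem good_all : ∀ (k : ℕ) (G : Type u) [Group G] [Finite G], Nat.card G = k →
    ¬ Group.IsSolvable G → RadTrivial G → ∀ A B : Subgroup G, IsCyclic A → IsZGroup B →
      (∀ g : G, ∃ a ∈ A, ∃ b ∈ B, g = a * b) → Good G A B := by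
  intro k
  induction k using Nat.strong_induction_on with
  | _ k ih =>
    intro G _ _ hk hns hrad A B hA hB hAB
    exact good_step (fun H _ _ hlt hns' hrad' A' B' hA' hB' hAB' =>
      ih _ (hk ▸ hlt) H rfl hns' hrad' A' B' hA' hB' hAB') hns hrad A B hA hB hAB

end Cfsg.Agent.CycZProd
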