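import Cfsg.Agent.CycZProd.Count

/-!
# Doubly transitive groups of even degree with Z-group stabilisers: first reductions
-/

set_option autoImplicit false

open scoped Pointwise

namespace Cfsg.Agent.CycZProd

/-- The hypotheses of the main theorem. -/
structure MainHyp (G Ω : Type*) [Group G] [MulAction G Ω] : Prop where
  two : TwoTrans G Ω
  even : Even (Nat.card Ω)
  pos : 2 ≤ Nat.card Ω
  zgroup : ∀ a : Ω, IsZGroup (MulAction.stabilizer G a)
  semi : ∃ x : G, orderOf x = 2 ^ (Nat.card Ω).factorization 2 ∧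
    ∀ k : ℤ, x ^ k ≠ 1 → ∀ a : Ω, x ^ k • a ≠ a

/-- The conclusion of the main theorem. -/
def MainConcl (G Ω : Type*) [Group G] [MulAction G Ω] : Prop :=
  Nat.card Ω = 2 ∨ ((Nat.card Ω - 1).Prime ∧
    ∀ a b : Ω, a ≠ b → Nat.card (pairStab G a b) = Nat.card Ω - 2)

variable {G Ω : Type*} [Group G] [Finite G] [MulAction G Ω] [FaithfulSMul G Ω] [Finite Ω]

theorem MainHyp.nonempty (H : MainHyp G Ω) : Nonempty Ω := by
  rcases isEmpty_or_nonempty Ω with h | h
  · have := H.pos
    rw [Nat.card_of_isEmpty] at this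
    omega
  · exact h

theorem MainHyp.odd_pred (H : MainHyp G Ω) : Odd (Nat.card Ω - 1) := by
  have := H.pos
  have := Nat.even_iff.mp H.even
  rw [Nat.odd_iff]
  omega

theorem MainHyp.exists_fpf (H : MainHyp G Ω) :
    ∃ j : G, orderOf j = 2 ∧ ∀ a : Ω, j • a ≠ a := by
  obtain ⟨x, hx, hsemi⟩ := H.semi
  have hn0 : Nat.card Ω ≠ 0 := by have := H.pos; omega
  have he : 1 ≤ (Nat.card Ω).factorization 2 :=
    Nat.Prime.factorization_pos_of_dvd Nat.prime_two hn0 H.even.two_dvd
  set e := (Nat.card Ω).factorization 2 with hedef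
  have hsplit : 2 ^ e = 2 ^ (e - 1) * 2 := by rw [← pow_succ, Nat.sub_add_cancel he]
  have hj : orderOf (x ^ 2 ^ (e - 1)) = 2 := by
    rw [orderOf_pow' x (pow_ne_zero _ two_ne_zero), hx,
      Nat.gcd_eq_right (Dvd.intro _ hsplit.symm), hsplit,
      Nat.mul_div_cancel_left _ (Nat.pos_of_ne_zero (pow_ne_zero _ two_ne_zero))]
  refine ⟨_, hj, fun a => ?_⟩
  have h := hsemi (2 ^ (e - 1) : ℕ) (by
    rw [zpow_natCast]
    intro h
    rw [h, orderOf_one] at hj
    exact absurd hj (by decide)) a
  rwa [zpow_natCast] at h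

/-- All pair stabilisers have the same order. -/
theorem MainHyp.card_pair_eq (H : MainHyp G Ω) {a b c d : Ω} (hab : a ≠ b) (hcd : c ≠ d) :
    Nat.card (pairStab G a b) = Nat.card (pairStab G c d) := by
  have h1 := card_group_eq H.two a
  have h3 := card_group_eq H.two c
  rw [card_stabilizer_eq H.two hab] at h1
  rw [card_stabilizer_eq H.two hcd, h1] at h3
  have := H.pos
  exact Nat.eq_of_mul_eq_mul_left (by omega : 0 < Nat.card Ω - 1)
    (Nat.eq_of_mul_eq_mul_left (by omega : 0 < Nat.card Ω) h3)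

/-- Unless the degree is two, the pair stabilisers have even order. -/
theorem MainHyp.two_or_even_pair (H : MainHyp G Ω) :
    Nat.card Ω = 2 ∨ ∀ a b : Ω, a ≠ b → Even (Nat.card (pairStab G a b)) := by
  by_cases hodd : ∃ a b : Ω, a ≠ b ∧ ¬ Even (Nat.card (pairStab G a b))
  swap
  · push Not at hodd
    exact Or.inr hodd
  left
  obtain ⟨a, b, hab, hd⟩ := hodd
  obtain ⟨x, hx, hsemi⟩ := H.semi
  haveI := Fact.mk Nat.prime_two
  set n := Nat.card Ω with hn
  set d := Nat.card (pairStab G a b) with hddef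
  have hG : Nat.card G = n * ((n - 1) * d) := by
    rw [card_group_eq H.two a, card_stabilizer_eq H.two hab]
  have hn0 : n ≠ 0 := by have := H.pos; omega
  have hm := H.odd_pred
  have hd0 : d ≠ 0 := Nat.card_pos.ne'
  have hm0 : n - 1 ≠ 0 := by have := H.pos; omega
  have hfac : (Nat.card G).factorization 2 = n.factorization 2 := by
    rw [hG, Nat.factorization_mul hn0 (mul_ne_zero hm0 hd0),
      Nat.factorization_mul hm0 hd0]
    simp only [Finsupp.add_apply]
    have e1 : (n - 1).factorization 2 = 0 := Nat.factorization_eq_zero_of_not_dvd fun h =>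
      absurd (even_iff_two_dvd.mpr h) (Nat.not_even_iff_odd.mpr hm)
    have e2 : d.factorization 2 = 0 :=
      Nat.factorization_eq_zero_of_not_dvd fun h => hd (even_iff_two_dvd.mpr h)
    rw [e1, e2]
    simp
  let P : Sylow 2 G := Sylow.ofCard (Subgroup.zpowers x) (by rw [Nat.card_zpowers, hx, hfac])
  have hPcyc : IsCyclic P := by
    change IsCyclic (Subgroup.zpowers x)
    infer_instance
  have hmin : (Nat.card G).minFac = 2 := by
    rw [Nat.minFac_eq_two_iff, hG]
    exact Dvd.dvd.mul_right H.even.two_dvd _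
  have hcompl := IsCyclic.isComplement' hmin hPcyc
  set N := (MonoidHom.transferSylow P (hPcyc.normalizer_le_centralizer hmin)).ker with hNdef
  have hNodd : Odd (Nat.card N) := by
    rw [← hcompl.index_eq_card, ← Nat.not_even_iff_odd, even_iff_two_dvd]
    exact P.not_dvd_index
  by_cases hN : N = ⊥
  · have hcard := hcompl.card_mul
    rw [hN, Subgroup.card_bot, one_mul] at hcard
    have hP : Nat.card P = 2 ^ n.factorization 2 := by
      change Nat.card (Subgroup.zpowers x) = _
      rw [Nat.card_zpowers, hx]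
    have hle : Nat.card G ≤ n := by
      rw [← hcard, hP]
      exact Nat.le_of_dvd (by omega) (Nat.ordProj_dvd n 2)
    rw [hG] at hle
    have h1 : (n - 1) * d ≤ 1 :=
      Nat.le_of_mul_le_mul_left (by rwa [mul_one]) (by omega : 0 < n)
    have h3 : n - 1 ≤ (n - 1) * d := Nat.le_mul_of_pos_right _ (Nat.pos_of_ne_zero hd0)
    have := H.pos
    omega
  · exfalso
    haveI : N.Normal := by rw [hNdef]; exact MonoidHom.normal_ker _
    obtain ⟨⟨u, hu⟩, hu1⟩ := Subgroup.ne_bot_iff_exists_ne_one.mp hN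
    obtain ⟨a', ha'⟩ : ∃ a' : Ω, u • a' ≠ a' := by
      by_contra! hall
      apply hu1
      apply Subtype.ext
      exact eq_of_smul_eq_smul (α := Ω) fun y => by rw [hall y]; exact (one_smul G y).symm
    haveI : MulAction.IsPretransitive N Ω := ⟨fun c e => by
      by_cases hce : c = e
      · exact ⟨1, by rw [one_smul, hce]⟩
      · obtain ⟨g, hgc, hge⟩ := H.two a' (u • a') c e ha'.symm hce
        refine ⟨⟨g * u * g⁻¹, (inferInstance : N.Normal).conj_mem u hu g⟩, ?_⟩
        change (g * u * g⁻¹) • c = e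
        rw [mul_smul, mul_smul, ← hgc, inv_smul_smul, hge]⟩
    have hidx := MulAction.index_stabilizer_of_transitive N (a : Ω)
    have hdvd : n ∣ Nat.card N := by
      rw [hn, ← hidx]
      exact Subgroup.index_dvd_card _
    exact Nat.not_even_iff_odd.mpr hNodd
      (even_iff_two_dvd.mpr (H.even.two_dvd.trans hdvd))

theorem MainHyp.pair_unique (H : MainHyp G Ω)
    (hev : ∀ a b : Ω, a ≠ b → Even (Nat.card (pairStab G a b))) {a b : Ω} (hab : a ≠ b) :
    ∃ t : G, (orderOf t = 2 ∧ t • a = a ∧ t • b = b) ∧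
      ∀ t' : G, orderOf t' = 2 → t' • a = a → t' • b = b → t' = t := by
  haveI := H.zgroup a
  haveI := Fact.mk Nat.prime_two
  have hcyc := isCyclic_pairStab H.two hab
  obtain ⟨t, ht⟩ := exists_prime_orderOf_dvd_card' 2 (hev a b hab).two_dvd
  refine ⟨t, ⟨by rw [Subgroup.orderOf_coe, ht], (mem_pairStab.mp t.2).1,
    (mem_pairStab.mp t.2).2⟩, fun t' ht' h1 h3 => ?_⟩
  exact involution_unique_of_cyclic hcyc t.2 (mem_pairStab.mpr ⟨h1, h3⟩)
    (by rw [Subgroup.orderOf_coe, ht]) ht'

/-- All involutions with fixed points are conjugate to the involution fixing a given pair. -/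
theorem MainHyp.fixed_conj (H : MainHyp G Ω)
    (hev : ∀ a b : Ω, a ≠ b → Even (Nat.card (pairStab G a b))) {a b : Ω} (hab : a ≠ b) {i t : G}
    (hi : orderOf i = 2) (hia : i • a = a) (hib : i • b = b) (ht : orderOf t = 2) {c : Ω}
    (hc : t • c = c) : ∃ g : G, g * t * g⁻¹ = i := by
  obtain ⟨c', hc'ne, hc'⟩ := exists_second_fixed H.even ht hc
  obtain ⟨g, hgc, hgc'⟩ := H.two c c' a b hc'ne.symm hab
  obtain ⟨s, -, hu⟩ := H.pair_unique hev hab
  refine ⟨g, (hu _ ((conj_orderOf g t).trans ht) ?_ ?_).trans (hu i hi hia hib).symm⟩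
  · rw [mul_smul, mul_smul, show g⁻¹ • a = c by rw [inv_smul_eq_iff, hgc], hc, hgc]
  · rw [mul_smul, mul_smul, show g⁻¹ • b = c' by rw [inv_smul_eq_iff, hgc'], hc', hgc']

/-- The case in which involutions with fixed points fix exactly two points. -/
theorem MainHyp.case_two (H : MainHyp G Ω)
    (hev : ∀ a b : Ω, a ≠ b → Even (Nat.card (pairStab G a b))) {a b : Ω} (hab : a ≠ b) {i : G}
    (hi : orderOf i = 2) (hia : i • a = a) (hib : i • b = b)
    (hfix : ∀ c : Ω, i • c = c → c = a ∨ c = b) (hn2 : Nat.card Ω ≠ 2) :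
    MainConcl G Ω := by
  haveI := H.zgroup a
  haveI := Fintype.ofFinite G
  obtain ⟨C, hCB, hCcyc, hnorm, hcomm, hself, hsemi, hdvd⟩ := exists_stab_core H.two a
  set B := MulAction.stabilizer G a with hBdef
  set D := pairStab G a b with hDdef
  have hiB : i ∈ B := MulAction.mem_stabilizer_iff.mpr hia
  have hdec : ∀ y ∈ B, ∃ c ∈ C, c⁻¹ * y ∈ D := by
    intro y hy
    let Hs : Subgroup G := C ⊔ Subgroup.zpowers i
    have hHs : Hs ≤ B := sup_le hCB (Subgroup.zpowers_le.mpr hiB)
    haveI : IsZGroup Hs :=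
      IsZGroup.of_injective (f := Subgroup.inclusion hHs) (Subgroup.inclusion_injective _)
    have hyi : y * i * y⁻¹ ∈ Hs := by
      have := hcomm y hy i hiB
      have e : y * i * y⁻¹ = (y * i * y⁻¹ * i⁻¹) * i := by group
      rw [e]
      exact mul_mem (Subgroup.mem_sup_left this)
        (Subgroup.mem_sup_right (Subgroup.mem_zpowers i))
    obtain ⟨h, hh, heq⟩ := involution_conj (H := Hs) (u := i) (v := y * i * y⁻¹)
      (Subgroup.mem_sup_right (Subgroup.mem_zpowers i)) hyi hi ((conj_orderOf y i).trans hi)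
    have hle : Subgroup.zpowers i ≤ Subgroup.normalizer (C : Set G) := by
      rw [Subgroup.zpowers_le, Subgroup.mem_normalizer_iff]
      intro c
      refine ⟨fun hc => hnorm i hiB c hc, fun hc => ?_⟩
      have := hnorm i hiB _ hc
      rw [inv_eq_self_of_orderOf_two hi] at this
      have e : i * (i * c * i) * i = c := by
        calc i * (i * c * i) * i = (i * i) * c * (i * i) := by group
          _ = c := by rw [sq_eq_one_of_orderOf_two hi, one_mul, mul_one]
      rwa [e] at this
    have hh' : h ∈ (C : Set G) * (Subgroup.zpowers i : Set G) := by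
      rw [← Subgroup.coe_mul_of_right_le_normalizer_left _ _ hle]
      exact hh
    obtain ⟨c, hc, w, hw, rfl⟩ := hh'
    obtain ⟨k, rfl⟩ := Subgroup.mem_zpowers_iff.mp hw
    refine ⟨c, hc, ?_⟩
    have hw' : i ^ k * i * (i ^ k)⁻¹ = i := by
      rw [← zpow_add_one, ← zpow_neg, ← zpow_add]
      simp
    have heq' : y * i * y⁻¹ = c * i * c⁻¹ := by
      calc y * i * y⁻¹ = (c * i ^ k) * i * (c * i ^ k)⁻¹ := heq
        _ = c * (i ^ k * i * (i ^ k)⁻¹) * c⁻¹ := by group
        _ = c * i * c⁻¹ := by rw [hw']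
    have hcy : (c⁻¹ * y) * i = i * (c⁻¹ * y) := by
      calc (c⁻¹ * y) * i = c⁻¹ * (y * i * y⁻¹) * y := by group
        _ = c⁻¹ * (c * i * c⁻¹) * y := by rw [heq']
        _ = i * (c⁻¹ * y) := by group
    have hca : (c⁻¹ * y) • a = a :=
      MulAction.mem_stabilizer_iff.mp (mul_mem (inv_mem (hCB hc)) hy)
    refine mem_pairStab.mpr ⟨hca, ?_⟩
    have : i • ((c⁻¹ * y) • b) = (c⁻¹ * y) • b := by rw [← mul_smul, ← hcy, mul_smul, hib]
    rcases hfix _ this with h | h
    · exact absurd (smul_left_cancel _ (hca.trans h.symm)) hab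
    · exact h
  -- `C` is regular on the other points
  set n := Nat.card Ω with hn
  have hCcard : Nat.card C = n - 1 := by
    have hsurj : ∀ x : Ω, x ≠ a → ∃ c ∈ C, c • b = x := by
      intro x hx
      obtain ⟨y, hya, hyb⟩ := H.two a b a x hab hx.symm
      obtain ⟨c, hc, hcy⟩ := hdec y (MulAction.mem_stabilizer_iff.mpr hya)
      refine ⟨c, hc, ?_⟩
      have h := (mem_pairStab.mp hcy).2
      rw [mul_smul, hyb, inv_smul_eq_iff] at h
      exact h.symm
    apply le_antisymm (Nat.le_of_dvd (by have := H.pos; omega) hdvd)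
    have hc1 : ({a} : Set Ω)ᶜ.ncard = n - 1 := by rw [Set.ncard_compl, Set.ncard_singleton]
    rw [← hc1, ← Nat.card_coe_set_eq]
    refine Nat.card_le_card_of_surjective (fun c : C => ⟨(c : G) • b, fun h => ?_⟩) ?_
    · have h' : (c : G) • b = (c : G) • a := by
        rw [MulAction.mem_stabilizer_iff.mp (hCB c.2)]; exact h
      exact hab (smul_left_cancel _ h').symm
    · rintro ⟨x, hx⟩
      obtain ⟨c, hc, hcx⟩ := hsurj x hx
      exact ⟨⟨c, hc⟩, Subtype.ext hcx⟩
  -- `D` is embedded in the automorphism group of `C`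
  let conjHom : D →* MulAut C :=
    { toFun := fun d =>
        { toFun := fun c => ⟨(d : G) * c * (d : G)⁻¹, hnorm _ (pairStab_le a b d.2) _ c.2⟩
          invFun := fun c => ⟨(d : G)⁻¹ * c * (d : G), by
            have := hnorm _ (inv_mem (pairStab_le a b d.2)) _ c.2
            rwa [inv_inv] at this⟩
          left_inv := fun c => Subtype.ext (by
            change (d : G)⁻¹ * ((d : G) * c * (d : G)⁻¹) * d = c
            group)
          right_inv := fun c => Subtype.ext (by
            change (d : G) * ((d : G)⁻¹ * c * (d : G)) * (d : G)⁻¹ = c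
            group)
          map_mul' := fun c c' => Subtype.ext (by
            change (d : G) * ((c : G) * c') * (d : G)⁻¹ =
              ((d : G) * c * (d : G)⁻¹) * ((d : G) * c' * (d : G)⁻¹)
            group) }
      map_one' := by
        apply MulEquiv.ext
        intro c
        apply Subtype.ext
        change (1 : G) * c * (1 : G)⁻¹ = c
        group
      map_mul' := fun d d' => by
        apply MulEquiv.ext
        intro c
        apply Subtype.ext
        change ((d : G) * d') * c * ((d : G) * d')⁻¹ = (d : G) * ((d' : G) * c * (d' : G)⁻¹) * (d : G)⁻¹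
        group }
  have hconj_inj : Function.Injective conjHom := by
    rw [injective_iff_map_eq_one]
    intro d hd
    apply Subtype.ext
    have hdC : (d : G) ∈ C := hself d (pairStab_le a b d.2) (fun c hc => by
      have := congrArg Subtype.val (DFunLike.congr_fun hd ⟨c, hc⟩)
      change (d : G) * c * (d : G)⁻¹ = c at this
      exact mul_inv_eq_iff_eq_mul.mp this)
    exact hsemi d hdC b hab.symm (mem_pairStab.mp d.2).2
  -- swappers
  have htwo : ∀ t : G, orderOf t = 2 → ∀ x y z : Ω, x ≠ y → t • x = x → t • y = y → t • z = z →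
      z = x ∨ z = y := by
    intro t ht x y z hxy hx hy hz
    obtain ⟨g, hg⟩ := H.fixed_conj hev hab hi hia hib ht hx
    have key : ∀ w : Ω, t • w = w → g • w = a ∨ g • w = b := fun w hw => hfix _ (by
      rw [← hg, mul_smul, mul_smul, inv_smul_smul, hw])
    rcases key x hx with h1 | h1 <;> rcases key y hy with h3 | h3 <;>
      rcases key z hz with h5 | h5
    all_goals first
      | exact absurd (smul_left_cancel g (h1.trans h3.symm)) hxy
      | exact Or.inl (smul_left_cancel g (h5.trans h1.symm))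
      | exact Or.inr (smul_left_cancel g (h5.trans h3.symm))
  have hcount := swapper_count H.two H.even (fun _ _ h => H.pair_unique hev h) htwo hab
  obtain ⟨j, hj2, hjf⟩ := H.exists_fpf
  obtain ⟨t, ht2, hta, htf⟩ := exists_fpf_swapper H.two hj2 hjf hab
  have htb : t • b = a := by rw [← hta]; exact smul_smul_of_orderOf_two ht2 a
  let S1 : Set G := {u : G | orderOf u = 2 ∧ u • a = b ∧ ∃ c : Ω, u • c = c}
  have hS : (insert t S1).ncard ≤ Nat.card D := by
    rw [← Nat.card_coe_set_eq]
    refine Nat.card_le_card_of_injective (fun u => ⟨t * u.1, ?_⟩) ?_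
    · have hu : orderOf u.1 = 2 ∧ u.1 • a = b := by
        rcases u.2 with h | ⟨h1, h2, -⟩
        · rw [h]; exact ⟨ht2, hta⟩
        · exact ⟨h1, h2⟩
      have hub : u.1 • b = a := by rw [← hu.2]; exact smul_smul_of_orderOf_two hu.1 a
      exact mem_pairStab.mpr ⟨by rw [mul_smul, hu.2, htb], by rw [mul_smul, hub, hta]⟩
    · intro u v huv
      exact Subtype.ext (mul_left_cancel (congrArg Subtype.val huv))
  have htS : t ∉ S1 := fun ⟨_, _, c, hc⟩ => htf c hc
  rw [Set.ncard_insert_of_notMem htS] at hS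
  have hd2 : n ≤ 2 * Nat.card D := by
    have : 2 * S1.ncard + 2 = n := hcount
    omega
  -- now the units of `ZMod (n - 1)` are cyclic
  haveI := hCcyc
  haveI hDcyc := isCyclic_pairStab H.two hab
  let ψ : D →* (ZMod (Nat.card C))ˣ := (IsCyclic.mulAutMulEquiv C).toMonoidHom.comp conjHom
  have hψ : Function.Injective ψ := (IsCyclic.mulAutMulEquiv C).injective.comp hconj_inj
  haveI : NeZero (Nat.card C) := ⟨Nat.card_pos.ne'⟩
  have hUcard : Nat.card (ZMod (Nat.card C))ˣ = Nat.totient (n - 1) := by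
    rw [Nat.card_eq_fintype_card, ZMod.card_units_eq_totient, hCcard]
  have hdiv : Nat.card D ∣ Nat.totient (n - 1) := hUcard ▸ Subgroup.card_dvd_of_injective ψ hψ
  have hpos := H.pos
  have hodd := H.odd_pred
  have hDeq : Nat.card D = Nat.totient (n - 1) := by
    obtain ⟨k, hk⟩ := hdiv
    have htot : Nat.totient (n - 1) ≤ n - 1 := Nat.totient_le _
    have hk0 : k ≠ 0 := by
      intro h0
      rw [h0, mul_zero] at hk
      exact (Nat.totient_pos.mpr (by omega : 0 < n - 1)).ne' hk
    rcases Nat.lt_or_ge k 2 with h | h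
    · rw [hk, show k = 1 by omega, mul_one]
    · have : Nat.card D * 2 ≤ Nat.card D * k := Nat.mul_le_mul_left _ h
      omega
  have hsurjψ : Function.Surjective ψ := by
    haveI := Fintype.ofFinite D
    apply ((Fintype.bijective_iff_injective_and_card ψ).mpr ⟨hψ, ?_⟩).2
    rw [← Nat.card_eq_fintype_card, ← Nat.card_eq_fintype_card, hUcard, hDeq]
  have hUcyc : IsCyclic (ZMod (n - 1))ˣ := by
    rw [← hCcard]
    exact isCyclic_of_surjective ψ hsurjψ
  obtain ⟨p, k, hp, -, hk⟩ := (ZMod.isCyclic_units_iff_of_odd hodd).mp hUcyc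
  have h1k : 1 ≤ k := by
    by_contra h
    have : k = 0 := by omega
    rw [this, pow_zero] at hk
    omega
  rw [hk, Nat.totient_prime_pow hp h1k] at hDeq
  have hk1 : k = 1 := by
    by_contra hne
    haveI := Fact.mk hp
    have hpD : p ∣ Nat.card D := by
      rw [hDeq]
      exact Dvd.dvd.mul_right (dvd_pow_self p (by omega)) _
    obtain ⟨v, hv⟩ := exists_prime_orderOf_dvd_card' p hpD
    obtain ⟨u, hu⟩ := exists_prime_orderOf_dvd_card' (G := C) p (by
      rw [hCcard, hk]; exact dvd_pow_self p (by omega))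
    have hmem : (v : G) ∈ Subgroup.zpowers (u : G) :=
      mem_zpowers_of_prime_normal (H := B) hp (hCB u.2) (pairStab_le a b v.2)
        (by rw [Subgroup.orderOf_coe, hu]) (by rw [Subgroup.orderOf_coe, hv]) (fun g hg =>
          mem_zpowers_of_orderOf_dvd hCcyc u.2 (hnorm g hg u u.2)
            (by rw [conj_orderOf]))
    have := hsemi v (Subgroup.zpowers_le.mpr u.2 hmem) b hab.symm (mem_pairStab.mp v.2).2
    rw [show v = 1 from Subtype.ext this, orderOf_one] at hv
    exact hp.one_lt.ne hv
  subst hk1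
  rw [pow_one] at hk
  rw [pow_zero, one_mul] at hDeq
  refine Or.inr ⟨hk ▸ hp, fun x y hxy => ?_⟩
  rw [H.card_pair_eq hxy hab, ← hDdef, hDeq, ← hk]
  omega

end Cfsg.Agent.CycZProd
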