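import Cfsg.Agent.CycZProd.Sharp
import Cfsg.Agent.CycZProd.Small
import Cfsg.Agent.S0215

/-!
# The fixed points of an involution: at least four is impossible
-/

set_option autoImplicit false

open scoped Pointwise

namespace Cfsg.Agent.CycZProd

variable {G Ω : Type*} [Group G] [Finite G] [MulAction G Ω] [FaithfulSMul G Ω] [Finite Ω]

/-- The action of the centraliser of `i` on the fixed points of `i`. -/
def fixPerm (i : G) :
    Subgroup.centralizer ({i} : Set G) →* Equiv.Perm {x : Ω // i • x = x} where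
  toFun g :=
    { toFun := fun x => ⟨(g : G) • x.1, by
        rw [← mul_smul, ← Subgroup.mem_centralizer_singleton_iff.mp g.2, mul_smul, x.2]⟩
      invFun := fun x => ⟨(g : G)⁻¹ • x.1, by
        have h : (g : G)⁻¹ * i = i * (g : G)⁻¹ :=
          Subgroup.mem_centralizer_singleton_iff.mp (inv_mem g.2)
        rw [← mul_smul, ← h, mul_smul, x.2]⟩
      left_inv := fun x => Subtype.ext (inv_smul_smul _ _)
      right_inv := fun x => Subtype.ext (smul_inv_smul _ _) }
  map_one' := Equiv.ext fun x => Subtype.ext (one_smul G x.1)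
  map_mul' g h := Equiv.ext fun x => Subtype.ext (mul_smul (g : G) (h : G) x.1)

omit [Finite G] [FaithfulSMul G Ω] [Finite Ω] in
theorem fixPerm_apply (i : G) (g : Subgroup.centralizer ({i} : Set G))
    (x : {x : Ω // i • x = x}) : ((fixPerm i g) x).1 = (g : G) • x.1 := rfl

/-- A conjugate of `u` commuting with `u` and different from it. -/
theorem exists_commuting_conj {u u' g : G} (hu : orderOf u = 2) (hu' : u' = g * u * g⁻¹)
    (hne : u' ≠ u) {P : Sylow 2 G} (huP : u ∈ P) (hu'P : u' ∈ P) :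
    ∃ g' : G, g' * u * g'⁻¹ ≠ u ∧ Commute (g' * u * g'⁻¹) u := by
  haveI := Fact.mk Nat.prime_two
  have hu2 := sq_eq_one_of_orderOf_two hu
  have hu'2 : u' * u' = 1 := by
    rw [hu', ← sq_eq_one_of_orderOf_two ((conj_orderOf g u).trans hu)]
  have hinvu := inv_eq_self_of_orderOf_two hu
  have hinvu' : u'⁻¹ = u' := inv_eq_of_mul_eq_one_right hu'2
  obtain ⟨k, hk⟩ := IsPGroup.iff_orderOf.mp P.2 ⟨u * u', mul_mem huP hu'P⟩
  rw [Subgroup.orderOf_mk] at hk
  rcases Nat.lt_or_ge k 2 with hk2 | hk2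
  · refine ⟨g, hu' ▸ hne, ?_⟩
    rw [← hu']
    have h4 : (u * u') * (u * u') = 1 := by
      have h := pow_orderOf_eq_one (u * u')
      rw [hk] at h
      rcases (show k = 0 ∨ k = 1 by omega) with rfl | rfl
      · rw [pow_zero, pow_one] at h
        rw [h, one_mul]
      · rwa [pow_one, pow_two] at h
    change u' * u = u * u'
    calc u' * u = u'⁻¹ * u⁻¹ := by rw [hinvu, hinvu']
      _ = (u * u')⁻¹ := (mul_inv_rev u u').symm
      _ = u * u' := inv_eq_of_mul_eq_one_right h4
  · set v := u * u' with hv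
    set s : ℕ := 2 ^ (k - 2) with hs
    have hsk : s + s + (s + s) = 2 ^ k := by
      rw [hs, show k = (k - 2) + 2 by omega, pow_add, Nat.add_sub_cancel]
      omega
    have huv : u * v * u = v⁻¹ := by
      rw [hv, mul_inv_rev, hinvu, hinvu', ← mul_assoc, hu2, one_mul]
    have huk : ∀ m : ℕ, u * v ^ m * u = (v ^ m)⁻¹ := by
      intro m
      induction m with
      | zero => rw [pow_zero, mul_one, inv_one, hu2]
      | succ m ih =>
        have e : u * v ^ (m + 1) * u = (u * v ^ m * u) * (u * v * u) := by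
          rw [pow_succ]
          calc u * (v ^ m * v) * u = u * v ^ m * (u * u) * v * u := by rw [hu2, mul_one]; group
            _ = (u * v ^ m * u) * (u * v * u) := by group
        rw [e, ih, huv, ← mul_inv_rev, ← pow_succ']
    refine ⟨(v ^ s)⁻¹, ?_⟩
    have hw : (v ^ s)⁻¹ * u * ((v ^ s)⁻¹)⁻¹ = u * v ^ (s + s) := by
      rw [inv_inv, ← huk s, pow_add]
      calc u * v ^ s * u * u * v ^ s = u * v ^ s * (u * u) * v ^ s := by group
        _ = u * (v ^ s * v ^ s) := by rw [hu2, mul_one, mul_assoc]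
    rw [hw]
    have hz2 : v ^ (s + s) * v ^ (s + s) = 1 := by
      rw [← pow_add, hsk, ← hk, pow_orderOf_eq_one]
    refine ⟨fun h => ?_, ?_⟩
    · have h1 : v ^ (s + s) = 1 := mul_eq_left.mp h
      have h3 := Nat.le_of_dvd (by have : 0 < s := Nat.pow_pos two_pos; omega)
        (orderOf_dvd_of_pow_eq_one h1)
      have : 0 < s := Nat.pow_pos two_pos
      omega
    · change u * v ^ (s + s) * u = u * (u * v ^ (s + s))
      rw [huk, ← mul_assoc, hu2, one_mul]
      exact inv_eq_of_mul_eq_one_right hz2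

/-- The induction hypothesis, applied to the fixed points of an involution. -/
def FixIH (G Ω : Type*) [Group G] [MulAction G Ω] : Prop :=
  ∀ i : G, ∀ H : Subgroup (Equiv.Perm {x : Ω // i • x = x}), i ≠ 1 →
    MainHyp H {x : Ω // i • x = x} → MainConcl H {x : Ω // i • x = x}

/-- An involution cannot fix four or more points. -/
theorem MainHyp.case_large (H : MainHyp G Ω) (IH : FixIH G Ω)
    (hev : ∀ a b : Ω, a ≠ b → Even (Nat.card (pairStab G a b))) {a b c : Ω} (hab : a ≠ b)
    (hca : c ≠ a) (hcb : c ≠ b) {i : G} (hi : orderOf i = 2) (hia : i • a = a) (hib : i • b = b)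
    (hic : i • c = c) : False := by
  classical
  haveI := Fintype.ofFinite G
  haveI := Fintype.ofFinite Ω
  haveI := Fact.mk Nat.prime_two
  haveI := H.nonempty
  have hi2 := sq_eq_one_of_orderOf_two hi
  have hiinv := inv_eq_self_of_orderOf_two hi
  have hi1 : i ≠ 1 := fun h => by rw [h, orderOf_one] at hi; exact absurd hi (by decide)
  set Ci := Subgroup.centralizer ({i} : Set G) with hCi
  have hmemC : ∀ g : G, g ∈ Ci ↔ g * i = i * g :=
    fun g => Subgroup.mem_centralizer_singleton_iff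
  have hiC : i ∈ Ci := (hmemC i).mpr rfl
  -- elements of a pair stabiliser at fixed points of `i` centralise `i`
  have hpairC : ∀ x y : Ω, x ≠ y → i • x = x → i • y = y → pairStab G x y ≤ Ci := by
    intro x y hxy hx hy g hg
    haveI := H.zgroup x
    haveI := isCyclic_pairStab H.two hxy
    exact (hmemC g).mpr (congrArg Subtype.val (IsMulCommutative.is_comm.comm
      (⟨g, hg⟩ : pairStab G x y) ⟨i, mem_pairStab.mpr ⟨hx, hy⟩⟩))
  let F := {x : Ω // i • x = x}
  let ρ : Ci →* Equiv.Perm F := fixPerm i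
  let Q : Subgroup (Equiv.Perm F) := ρ.range
  let π : Ci →* Q := ρ.rangeRestrict
  have hπsurj : Function.Surjective π := ρ.rangeRestrict_surjective
  have hπ : ∀ (g : Ci) (x : F), (π g • x).1 = (g : G) • x.1 := fun _ _ => rfl
  -- the action on the fixed points is doubly transitive
  have htwoQ : TwoTrans Q F := by
    intro x y z w hxy hzw
    obtain ⟨g, hgx, hgy⟩ := H.two x.1 y.1 z.1 w.1 (fun h => hxy (Subtype.ext h))
      (fun h => hzw (Subtype.ext h))
    have hgC : g ∈ Ci := by
      obtain ⟨t, -, hu⟩ := H.pair_unique hev (a := z.1) (b := w.1)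
        (fun h => hzw (Subtype.ext h))
      have h1 := hu i hi z.2 w.2
      have h3 := hu (g * i * g⁻¹) ((conj_orderOf g i).trans hi)
        (by rw [mul_smul, mul_smul, ← hgx, inv_smul_smul, x.2])
        (by rw [mul_smul, mul_smul, ← hgy, inv_smul_smul, y.2])
      exact (hmemC g).mpr (mul_inv_eq_iff_eq_mul.mp (h3.trans h1.symm))
    exact ⟨π ⟨g, hgC⟩, Subtype.ext ((hπ _ _).trans hgx), Subtype.ext ((hπ _ _).trans hgy)⟩
  set f := Nat.card F with hf
  have hFcard : f = (Finset.univ.filter fun x : Ω => i • x = x).card := by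
    rw [hf, Nat.card_eq_fintype_card, Fintype.card_subtype]
  have hfeven : Even f := by
    have hp : IsPGroup 2 (Subgroup.zpowers i) := IsPGroup.iff_card.mpr ⟨1, by
      rw [Nat.card_zpowers, pow_one, hi]⟩
    have hmod := hp.card_modEq_card_fixedPoints Ω
    have hfx : Nat.card (MulAction.fixedPoints (Subgroup.zpowers i) Ω) = f := by
      refine Nat.card_congr (Equiv.subtypeEquivRight fun x => ?_)
      exact ⟨fun h => h ⟨i, Subgroup.mem_zpowers i⟩, fun h g => MulAction.mem_stabilizer_iff.mp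
        (Subgroup.zpowers_le.mpr (MulAction.mem_stabilizer_iff.mpr h) g.2)⟩
    rw [hfx] at hmod
    have := Nat.even_iff.mp H.even
    rw [Nat.even_iff]
    unfold Nat.ModEq at hmod
    omega
  have hf4 : 4 ≤ f := by
    have h3 : 3 ≤ f := by
      rw [hFcard]
      have hsub : ({a, b, c} : Finset Ω) ⊆ Finset.univ.filter fun x => i • x = x := by
        intro x hx
        simp only [Finset.mem_insert, Finset.mem_singleton] at hx
        rcases hx with rfl | rfl | rfl <;> simp [hia, hib, hic]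
      have := Finset.card_le_card hsub
      rwa [Finset.card_insert_of_notMem (by simp [hab, hca.symm]),
        Finset.card_pair hcb.symm] at this
    have := Nat.even_iff.mp hfeven
    omega
  have hex3 : ∀ x y : F, ∃ z : F, z ≠ x ∧ z ≠ y := by
    intro x y
    by_contra! hcon
    have h1 : f ≤ 2 := by
      rw [hf, Nat.card_eq_fintype_card]
      calc Fintype.card F = (Finset.univ : Finset F).card := (Finset.card_univ).symm
        _ ≤ ({x, y} : Finset F).card := Finset.card_le_card (fun z _ => by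
            by_cases h : z = x
            · simp [h]
            · simp [hcon z h])
        _ ≤ 2 := Finset.card_le_two
    omega
  -- a semiregular element of maximal 2-power order in the centraliser
  set n := Nat.card Ω with hn
  have hn0 : n ≠ 0 := by have := H.pos; omega
  set d := Nat.card (pairStab G a b) with hd
  have hd0 : d ≠ 0 := Nat.card_pos.ne'
  have hm0 : n - 1 ≠ 0 := by have := H.pos; omega
  have hBcard : Nat.card (MulAction.stabilizer G a) = (n - 1) * d := card_stabilizer_eq H.two hab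
  have hmodd : (n - 1).factorization 2 = 0 := Nat.factorization_eq_zero_of_not_dvd fun h =>
    absurd (even_iff_two_dvd.mpr h) (Nat.not_even_iff_odd.mpr H.odd_pred)
  haveI hpreQ := htwoQ.isPretransitive
  letI : MulAction Ci F := MulAction.compHom F π
  haveI : MulAction.IsPretransitive Ci F := ⟨fun x y => by
    obtain ⟨q, hq⟩ := MulAction.exists_smul_eq Q x y
    obtain ⟨g, rfl⟩ := hπsurj q
    exact ⟨g, hq⟩⟩
  have hCicard : Nat.card Ci = f * Nat.card (MulAction.stabilizer Ci (⟨a, hia⟩ : F)) := by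
    rw [← Subgroup.index_mul_card (MulAction.stabilizer Ci (⟨a, hia⟩ : F)),
      MulAction.index_stabilizer_of_transitive]
  let Sa : Subgroup G := Ci ⊓ MulAction.stabilizer G a
  have hSa : Nat.card (MulAction.stabilizer Ci (⟨a, hia⟩ : F)) = Nat.card Sa := by
    refine Nat.card_congr ⟨fun g => ⟨g.1.1, g.1.2, ?_⟩, fun g => ⟨⟨g.1, g.2.1⟩, ?_⟩,
      fun g => rfl, fun g => rfl⟩
    · exact MulAction.mem_stabilizer_iff.mpr (congrArg Subtype.val (g.2 : g.1 • (⟨a, hia⟩ : F) = _))
    · exact MulAction.mem_stabilizer_iff.mpr (Subtype.ext (MulAction.mem_stabilizer_iff.mp g.2.2))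
  have hSafac : (Nat.card Sa).factorization 2 = d.factorization 2 := by
    have h1 : Nat.card Sa ∣ (n - 1) * d := hBcard ▸ Subgroup.card_dvd_of_le inf_le_right
    have h3 : d ∣ Nat.card Sa := Subgroup.card_dvd_of_le
      (le_inf (hpairC a b hab hia hib) (pairStab_le a b))
    have h1' := (Nat.factorization_le_iff_dvd Nat.card_pos.ne' (mul_ne_zero hm0 hd0)).mpr h1 2
    have h3' := (Nat.factorization_le_iff_dvd hd0 Nat.card_pos.ne').mpr h3 2
    rw [Nat.factorization_mul hm0 hd0, Finsupp.add_apply, hmodd] at h1'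
    omega
  have hf0 : f ≠ 0 := by omega
  have hCifac : (Nat.card Ci).factorization 2 = f.factorization 2 + d.factorization 2 := by
    rw [hCicard, hSa, Nat.factorization_mul hf0 Nat.card_pos.ne', Finsupp.add_apply, hSafac]
  have hGfac : (Nat.card G).factorization 2 = n.factorization 2 + d.factorization 2 := by
    rw [card_group_eq H.two a, hBcard, Nat.factorization_mul hn0 (mul_ne_zero hm0 hd0),
      Nat.factorization_mul hm0 hd0, Finsupp.add_apply, Finsupp.add_apply, hmodd, zero_add]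
  set e := f.factorization 2 with he'
  have he : 1 ≤ e := Nat.Prime.factorization_pos_of_dvd Nat.prime_two hf0 hfeven.two_dvd
  obtain ⟨a0, ha0C, ha0ord, ha0semi⟩ : ∃ a0 : G, a0 ∈ Ci ∧ orderOf a0 = 2 ^ e ∧
      ∀ k : ℤ, a0 ^ k ≠ 1 → ∀ x : Ω, a0 ^ k • x ≠ x := by
    obtain ⟨x, hx, hxsemi⟩ := H.semi
    let D2 : Sylow 2 (pairStab G a b) := default
    let D2G : Subgroup G := (D2 : Subgroup (pairStab G a b)).map (pairStab G a b).subtype
    have hD2card : Nat.card D2G = 2 ^ d.factorization 2 := by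
      rw [Subgroup.card_map_of_injective (pairStab G a b).subtype_injective]
      exact D2.card_eq_multiplicity
    have hD2p : IsPGroup 2 D2G := IsPGroup.iff_card.mpr ⟨_, hD2card⟩
    have hD2le : D2G ≤ pairStab G a b := Subgroup.map_subtype_le _
    have hD2C : D2G ≤ Ci := hD2le.trans (hpairC a b hab hia hib)
    obtain ⟨P0, hP0⟩ :=
      (hD2p.of_equiv (Subgroup.subgroupOfEquivOfLe hD2C).symm).exists_le_sylow
    let P0G : Subgroup G := (P0 : Subgroup Ci).map Ci.subtype
    have hP0card : Nat.card P0G = 2 ^ (e + d.factorization 2) := by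
      rw [Subgroup.card_map_of_injective Ci.subtype_injective, ← hCifac]
      exact P0.card_eq_multiplicity
    have hP0C : P0G ≤ Ci := Subgroup.map_subtype_le _
    have hD2P0 : D2G ≤ P0G := fun u hu => ⟨⟨u, hD2C hu⟩, hP0 hu, rfl⟩
    obtain ⟨S, hS⟩ := (IsPGroup.iff_card.mpr ⟨_, hP0card⟩ : IsPGroup 2 P0G).exists_le_sylow
    have hxp : IsPGroup 2 (Subgroup.zpowers x) :=
      IsPGroup.iff_card.mpr ⟨_, by rw [Nat.card_zpowers, hx]⟩
    obtain ⟨S', hS'⟩ := hxp.exists_le_sylow
    obtain ⟨g, hg⟩ := MulAction.exists_smul_eq G S' S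
    set y := g * x * g⁻¹ with hy
    have hyS : y ∈ S := by
      rw [← hg, ← SetLike.mem_coe, Sylow.coe_smul]
      exact Set.smul_mem_smul_set (a := MulAut.conj g) (hS' (Subgroup.mem_zpowers x))
    have hyord : orderOf y = 2 ^ n.factorization 2 := (conj_orderOf g x).trans hx
    have hysemi : ∀ k : ℤ, y ^ k ≠ 1 → ∀ z : Ω, y ^ k • z ≠ z := by
      intro k hk z hz
      rw [hy, conj_zpow] at hk hz
      refine hxsemi k (fun h => hk (by rw [h, mul_one, mul_inv_cancel])) (g⁻¹ • z) ?_
      rwa [mul_smul, mul_smul, smul_eq_iff_eq_inv_smul] at hz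
    let X : Subgroup G := Subgroup.zpowers y
    have hXS : X ≤ S := Subgroup.zpowers_le.mpr hyS
    have hD2S : D2G ≤ S := hD2P0.trans hS
    let φ : X × D2G → S := fun p =>
      ⟨p.1 * p.2, mul_mem (hXS p.1.2) (hD2S p.2.2)⟩
    have hφinj : Function.Injective φ := by
      rintro ⟨u, v⟩ ⟨u', v'⟩ h
      have h' : (u : G) * v = u' * v' := congrArg Subtype.val h
      have hmem : (u' : G)⁻¹ * u ∈ D2G := by
        have : (u' : G)⁻¹ * u = v' * (v : G)⁻¹ := by
          rw [eq_mul_inv_iff_mul_eq, mul_assoc, h', inv_mul_cancel_left]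
        rw [this]
        exact mul_mem v'.2 (inv_mem v.2)
      obtain ⟨k, hk⟩ := Subgroup.mem_zpowers_iff.mp
        (mul_mem (inv_mem u'.2) u.2 : (u' : G)⁻¹ * u ∈ X)
      have huu : (u' : G) = u := by
        rw [← inv_mul_eq_one]
        by_contra hne
        refine hysemi k (by rw [hk]; exact hne) a ?_
        rw [hk]
        exact (mem_pairStab.mp (hD2le hmem)).1
      rw [← huu] at h'
      exact Prod.ext (Subtype.ext huu.symm) (Subtype.ext (mul_left_cancel h'))
    have hφsurj : Function.Surjective φ := by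
      apply ((Fintype.bijective_iff_injective_and_card φ).mpr ⟨hφinj, ?_⟩).2
      rw [← Nat.card_eq_fintype_card, ← Nat.card_eq_fintype_card, Nat.card_prod, hD2card,
        Nat.card_zpowers, hyord, ← pow_add, ← hGfac]
      exact S.card_eq_multiplicity.symm
    let ψ : (X ⊓ P0G : Subgroup G) × D2G → P0G := fun p =>
      ⟨p.1 * p.2, mul_mem p.1.2.2 (hD2P0 p.2.2)⟩
    have hψ : Function.Bijective ψ := by
      constructor
      · rintro ⟨u, v⟩ ⟨u', v'⟩ h
        have h' : (u : G) * v = u' * v' := congrArg Subtype.val h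
        have := hφinj (a₁ := (⟨u, u.2.1⟩, v)) (a₂ := (⟨u', u'.2.1⟩, v')) (Subtype.ext h')
        exact Prod.ext (Subtype.ext (congrArg (fun p : X × D2G => (p.1 : G)) this))
          (congrArg Prod.snd this :)
      · intro w
        obtain ⟨⟨u, v⟩, huv⟩ := hφsurj ⟨w, hS w.2⟩
        have h' : (u : G) * v = w := congrArg Subtype.val huv
        refine ⟨(⟨u, u.2, ?_⟩, v), Subtype.ext h'⟩
        change (u : G) ∈ P0G
        rw [eq_mul_inv_of_mul_eq h']
        exact mul_mem w.2 (inv_mem (hD2P0 v.2))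
    have hX0 : Nat.card (X ⊓ P0G : Subgroup G) = 2 ^ e := by
      have := Nat.card_eq_of_bijective ψ hψ
      rw [Nat.card_prod, hD2card, hP0card, pow_add] at this
      exact Nat.eq_of_mul_eq_mul_right (pow_pos two_pos _) this
    haveI : IsCyclic (X ⊓ P0G : Subgroup G) := Subgroup.isCyclic_of_le inf_le_left
    obtain ⟨a0, ha0⟩ := IsCyclic.exists_ofOrder_eq_natCard (α := (X ⊓ P0G : Subgroup G))
    refine ⟨a0, hP0C (Subgroup.mem_inf.mp a0.2).2, by rw [Subgroup.orderOf_coe, ha0, hX0],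
      fun k hk z => ?_⟩
    obtain ⟨l, hl⟩ := Subgroup.mem_zpowers_iff.mp
      (Subgroup.zpow_mem X (Subgroup.mem_inf.mp a0.2).1 k)
    rw [← hl] at hk ⊢
    exact hysemi l hk z
  -- the image of `a0`
  set A0 : Q := π ⟨a0, ha0C⟩ with hA0
  have hπinj : ∀ k : ℤ, A0 ^ k = 1 → a0 ^ k = 1 := by
    intro k hk
    by_contra hne
    refine ha0semi k hne a ?_
    have h := congrArg (fun q : Q => (q • (⟨a, hia⟩ : F)).1) hk
    rw [hA0, ← map_zpow] at h
    rw [hπ, SubgroupClass.coe_zpow, one_smul] at h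
    exact h
  have hA0pow : ∀ k : ℤ, a0 ^ k = 1 → A0 ^ k = 1 := by
    intro k hk
    rw [hA0, ← map_zpow, ← map_one π]
    congr 1
    apply Subtype.ext
    rw [SubgroupClass.coe_zpow]
    exact hk
  have hA0ord : orderOf A0 = 2 ^ e := by
    rw [← ha0ord, orderOf_eq_orderOf_iff]
    intro m
    exact ⟨fun h => by
      have := hπinj m (by rw [zpow_natCast]; exact h)
      rwa [zpow_natCast] at this, fun h => by
      have := hA0pow m (by rw [zpow_natCast]; exact h)
      rwa [zpow_natCast] at this⟩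
  have hA0semi : ∀ k : ℤ, A0 ^ k ≠ 1 → ∀ x : F, A0 ^ k • x ≠ x := by
    intro k hk x hx
    refine ha0semi k (fun h => hk (hA0pow k h)) x.1 ?_
    have h := congrArg Subtype.val hx
    rw [hA0, ← map_zpow, hπ, SubgroupClass.coe_zpow] at h
    exact h
  -- stabilisers in the image are Z-groups
  have hzQ : ∀ x : F, IsZGroup (MulAction.stabilizer Q x) := by
    intro x
    haveI := H.zgroup x.1
    let S0 : Subgroup G := Ci ⊓ MulAction.stabilizer G x.1
    haveI : IsZGroup S0 := IsZGroup.of_injective (f := Subgroup.inclusion inf_le_right)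
      (Subgroup.inclusion_injective _)
    let φ : S0 →* MulAction.stabilizer Q x :=
      MonoidHom.codRestrict (π.comp (Subgroup.inclusion inf_le_left)) _ (fun g =>
        MulAction.mem_stabilizer_iff.mpr (Subtype.ext
          ((hπ _ _).trans (MulAction.mem_stabilizer_iff.mp g.2.2))))
    refine IsZGroup.of_surjective (f := φ) fun q => ?_
    obtain ⟨g, hg⟩ := hπsurj q.1
    refine ⟨⟨g, g.2, ?_⟩, Subtype.ext hg⟩
    have h : q.1 • x = x := q.2
    rw [← hg] at h
    exact MulAction.mem_stabilizer_iff.mpr (congrArg Subtype.val h)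
  -- apply the induction hypothesis
  have hQhyp : MainHyp Q F := ⟨htwoQ, hfeven, by omega, hzQ, ⟨A0, hA0ord, hA0semi⟩⟩
  have hconc := IH i Q hi1 hQhyp
  rcases hconc with h | ⟨hq, hpair⟩
  · have : f = 2 := h
    omega
  have hS : SharpHyp Q F (f - 1) :=
    ⟨htwoQ, hq, by omega, by omega, hzQ, fun x y hxy => by
      have := hpair x y hxy
      omega⟩
  -- `j`, fixed-point-free
  set j := a0 ^ 2 ^ (e - 1) with hj
  have hsplit : 2 ^ e = 2 ^ (e - 1) * 2 := by rw [← pow_succ, Nat.sub_add_cancel he]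
  have hj2 : orderOf j = 2 := by
    rw [hj, orderOf_pow' a0 (pow_ne_zero _ two_ne_zero), ha0ord,
      Nat.gcd_eq_right (Dvd.intro _ hsplit.symm), hsplit,
      Nat.mul_div_cancel_left _ (Nat.pos_of_ne_zero (pow_ne_zero _ two_ne_zero))]
  have hj1 : j ≠ 1 := fun h => by rw [h, orderOf_one] at hj2; exact absurd hj2 (by decide)
  have hjf : ∀ x : Ω, j • x ≠ x := by
    intro x
    have h := ha0semi (2 ^ (e - 1) : ℕ) (by rw [zpow_natCast]; exact hj1) x
    rwa [zpow_natCast] at h
  have hjsq := sq_eq_one_of_orderOf_two hj2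
  have hjC : j ∈ Ci := pow_mem ha0C _
  have hjinv := inv_eq_self_of_orderOf_two hj2
  have hij : i * j = j * i := ((hmemC j).mp hjC).symm
  set J : Q := π ⟨j, hjC⟩ with hJdef
  have hJA : J = A0 ^ 2 ^ (e - 1) := by
    rw [hA0, ← map_pow]
    rfl
  have hJf : ∀ x : F, J • x ≠ x := fun x h =>
    hjf x.1 ((hπ _ _).symm.trans (congrArg Subtype.val h))
  have hJ2 : orderOf J = 2 := by
    refine orderOf_eq_prime ?_ fun h => hJf ⟨a, hia⟩ (by rw [h]; exact one_smul _ _)
    rw [hJdef, ← map_pow, ← map_one π]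
    congr 1
    exact Subtype.ext (by rw [SubgroupClass.coe_pow, pow_two]; exact hjsq)
  -- the kernel
  have hker : ∀ g : Ci, π g = 1 → ∀ x : Ω, i • x = x → (g : G) • x = x := by
    intro g hg x hx
    have h := congrArg (fun q : Q => (q • (⟨x, hx⟩ : F)).1) hg
    simpa [hπ] using h
  have hkey : ∀ g : Ci, π g = 1 → ∀ y : G, y ∈ Ci → y * g = g * y := by
    intro g hg
    have hstab : ∀ y ∈ Ci, ∀ x : F, y • x.1 = x.1 → y * g = g * y := by
      intro y hy x hyx
      haveI := H.zgroup x.1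
      obtain ⟨C, -, -, -, hcomm, -, hsemi, -⟩ := exists_stab_core H.two x.1
      obtain ⟨z, hz, -⟩ := hex3 x x
      have h1 := hcomm y (MulAction.mem_stabilizer_iff.mpr hyx) g
        (MulAction.mem_stabilizer_iff.mpr (hker g hg x.1 x.2))
      have hk : π (⟨y, hy⟩ * g * ⟨y, hy⟩⁻¹ * g⁻¹) = 1 := by
        simp [map_mul, map_inv, hg]
      have h3 := hker _ hk z.1 z.2
      exact mul_inv_eq_iff_eq_mul.mp
        (mul_inv_eq_one.mp (hsemi _ h1 z.1 (fun h => hz (Subtype.ext h)) h3))
    intro y hy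
    by_cases hya : y • a = a
    · exact hstab y hy ⟨a, hia⟩ hya
    · set x0 : F := ⟨a, hia⟩ with hx0
      set x1 : F := π ⟨y, hy⟩ • x0 with hx1
      have hne : x0 ≠ x1 := fun h => hya ((hπ _ _).symm.trans (congrArg Subtype.val h.symm))
      obtain ⟨z, hz0, hz1⟩ := hex3 x0 x1
      obtain ⟨q, hqz, hqx⟩ := htwoQ z x0 z x1 hz0 hz1
      obtain ⟨h, rfl⟩ := hπsurj q
      have h1 : (h : G) * g = g * h :=
        hstab h h.2 z ((hπ h z).symm.trans (congrArg Subtype.val hqz))
      have hha : (h : G) • a = y • a := by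
        have := congrArg Subtype.val hqx
        rw [hπ] at this
        exact this
      have h3 : ((h : G)⁻¹ * y) * g = g * ((h : G)⁻¹ * y) :=
        hstab _ (mul_mem (inv_mem h.2) hy) x0 (by
          rw [mul_smul, ← hha, inv_smul_smul])
      calc y * g = h * ((h : G)⁻¹ * y * g) := by group
        _ = (h * g) * ((h : G)⁻¹ * y) := by rw [h3, mul_assoc]
        _ = (g * h) * ((h : G)⁻¹ * y) := by rw [h1]
        _ = g * y := by group
  obtain ⟨ti, -, hti⟩ := H.pair_unique hev hab
  have hkerinv : ∀ g : Ci, π g = 1 → (g : G) * g = 1 → (g : G) = 1 ∨ (g : G) = i := by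
    intro g hg hsq
    by_cases h1 : (g : G) = 1
    · exact Or.inl h1
    · exact Or.inr ((hti _ (orderOf_eq_prime (by rw [pow_two]; exact hsq) h1) (hker g hg a hia)
        (hker g hg b hib)).trans (hti i hi hia hib).symm)
  have hπi : π ⟨i, hiC⟩ = 1 := by
    apply Subtype.ext
    apply Equiv.ext
    intro x
    exact Subtype.ext x.2
  -- conjugates of `i` in the centraliser
  have hconjCi : ∀ g0 : G, g0 * i * g0⁻¹ ∈ Ci → g0 * i * g0⁻¹ ≠ i →
      ∃ h ∈ Ci, h * (g0 * i * g0⁻¹) * h⁻¹ = j * i := by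
    intro g0 hwC hwne
    set w := g0 * i * g0⁻¹ with hw
    have hw2 : orderOf w = 2 := (conj_orderOf g0 i).trans hi
    have hwf : ∀ x : Ω, i • x = x → w • x ≠ x := by
      intro x hx hwx
      haveI := H.zgroup x
      exact hwne (involution_eq_of_commute (H := MulAction.stabilizer G x) (u := i) (v := w)
        (MulAction.mem_stabilizer_iff.mpr hx) (MulAction.mem_stabilizer_iff.mpr hwx) hi hw2
        ((hmemC w).mp hwC).symm)
    have hWf : ∀ x : F, π ⟨w, hwC⟩ • x ≠ x := fun x h =>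
      hwf x.1 x.2 ((hπ _ _).symm.trans (congrArg Subtype.val h))
    have hW2 : orderOf (π ⟨w, hwC⟩) = 2 := by
      refine orderOf_eq_prime ?_ fun h => hWf ⟨a, hia⟩ (by rw [h]; exact one_smul _ _)
      rw [← map_pow, ← map_one π]
      congr 1
      exact Subtype.ext (by
        rw [SubgroupClass.coe_pow, pow_two]; exact sq_eq_one_of_orderOf_two hw2)
    obtain ⟨q, hq⟩ := hS.fpf_conj hJ2 hJf hW2 hWf
    obtain ⟨h, rfl⟩ := hπsurj q
    refine ⟨h, h.2, ?_⟩
    set w1 : Ci := h * ⟨w, hwC⟩ * h⁻¹ with hw1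
    have hπw1 : π w1 = J := by rw [hw1, map_mul, map_mul, map_inv]; exact hq
    set κ : Ci := ⟨j, hjC⟩⁻¹ * w1 with hκ
    have hπκ : π κ = 1 := by rw [hκ, map_mul, map_inv, ← hJdef, hπw1, inv_mul_cancel]
    have hcm : j * (κ : G) = κ * j := hkey κ hπκ j hjC
    have hw1e : (w1 : G) = j * κ := by
      rw [hκ, Subgroup.coe_mul, Subgroup.coe_inv]
      exact (mul_inv_cancel_left j _).symm
    have hw1sq : (w1 : G) * w1 = 1 :=
      sq_eq_one_of_orderOf_two ((conj_orderOf (h : G) w).trans hw2)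
    have hκsq : (κ : G) * κ = 1 := by
      rw [hw1e] at hw1sq
      calc (κ : G) * κ = (j * j) * ((κ : G) * κ) := by rw [hjsq, one_mul]
        _ = j * (j * κ) * κ := by group
        _ = j * (κ * j) * κ := by rw [hcm]
        _ = (j * κ) * (j * κ) := by group
        _ = 1 := hw1sq
    rcases hkerinv κ hπκ hκsq with h1 | h1
    · exfalso
      rw [h1, mul_one] at hw1e
      refine hjf (((h : G) * g0) • a) ?_
      rw [← hw1e]
      change ((h : G) * w * (h : G)⁻¹) • ((h : G) * g0) • a = ((h : G) * g0) • a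
      rw [hw, ← mul_smul,
        show (h : G) * (g0 * i * g0⁻¹) * (h : G)⁻¹ * ((h : G) * g0) = (h : G) * g0 * i by group,
        mul_smul, hia]
    · rw [h1] at hw1e
      exact hw1e
  -- Glauberman's theorem gives a commuting conjugate
  obtain ⟨g0, hg0ne, hg0c⟩ : ∃ g0 : G, g0 * i * g0⁻¹ ≠ i ∧ Commute (g0 * i * g0⁻¹) i := by
    obtain ⟨P, hP⟩ := (IsPGroup.iff_card.mpr ⟨1, by rw [Nat.card_zpowers, pow_one, hi]⟩ :
      IsPGroup 2 (Subgroup.zpowers i)).exists_le_sylow
    by_cases hiso : ∀ g : G, g * i * g⁻¹ ∈ P → g * i * g⁻¹ = i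
    · exfalso
      obtain ⟨N, hN, hNodd, hNc⟩ := S0215.result P i hi (hP (Subgroup.mem_zpowers i)) hiso
      by_cases hNbot : N = ⊥
      · apply hi1
        apply eq_of_smul_eq_smul (α := Ω)
        intro x
        obtain ⟨g, rfl⟩ := H.two.isPretransitive.exists_smul_eq a x
        have h := hNc g
        rw [hNbot, Subgroup.mem_bot, mul_inv_eq_one, mul_inv_eq_iff_eq_mul] at h
        rw [one_smul, ← mul_smul, h, mul_smul, hia]
      · haveI := hN
        obtain ⟨⟨u, hu⟩, hu1⟩ := Subgroup.ne_bot_iff_exists_ne_one.mp hNbot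
        obtain ⟨a', ha'⟩ : ∃ a' : Ω, u • a' ≠ a' := by
          by_contra! hall
          apply hu1
          apply Subtype.ext
          exact eq_of_smul_eq_smul (α := Ω) fun y => by rw [hall y]; exact (one_smul G y).symm
        haveI : MulAction.IsPretransitive N Ω := ⟨fun x y => by
          by_cases hxy : x = y
          · exact ⟨1, by rw [one_smul, hxy]⟩
          · obtain ⟨g, hgx, hgy⟩ := H.two a' (u • a') x y ha'.symm hxy
            refine ⟨⟨g * u * g⁻¹, hN.conj_mem u hu g⟩, ?_⟩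
            change (g * u * g⁻¹) • x = y
            rw [mul_smul, mul_smul, ← hgx, inv_smul_smul, hgy]⟩
        have hdvd : n ∣ Nat.card N := by
          rw [hn, ← MulAction.index_stabilizer_of_transitive N a]
          exact Subgroup.index_dvd_card _
        exact Nat.not_even_iff_odd.mpr hNodd
          (even_iff_two_dvd.mpr (H.even.two_dvd.trans hdvd))
    · push Not at hiso
      obtain ⟨g, hgP, hgne⟩ := hiso
      exact exists_commuting_conj hi rfl hgne (hP (Subgroup.mem_zpowers i)) hgP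
  -- `i` and `j * i` are interchanged by some `g`
  obtain ⟨h0, hh0C, hh0⟩ := hconjCi g0 ((hmemC _).mpr hg0c.eq) hg0ne
  have hg1 : (h0 * g0) * i * (h0 * g0)⁻¹ = j * i := by rw [← hh0]; group
  set g1 := h0 * g0 with hg1def
  have hjiC : j * i ∈ Ci := mul_mem hjC hiC
  have hi'C : g1⁻¹ * i * g1 ∈ Ci := by
    rw [hmemC]
    have hc : i * (j * i) = (j * i) * i := by rw [← mul_assoc, hij]
    calc g1⁻¹ * i * g1 * i = g1⁻¹ * (i * (g1 * i * g1⁻¹)) * g1 := by group
      _ = g1⁻¹ * ((g1 * i * g1⁻¹) * i) * g1 := by rw [hg1, hc]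
      _ = i * (g1⁻¹ * i * g1) := by group
  have hi'ne : g1⁻¹ * i * g1 ≠ i := by
    intro h
    have h' : g1 * i * g1⁻¹ = i := by
      conv_lhs => rw [← h]
      group
    rw [hg1, mul_eq_right] at h'
    exact hj1 h'
  obtain ⟨h1, hh1C, hh1⟩ := hconjCi g1⁻¹ (by rwa [inv_inv]) (by rwa [inv_inv])
  rw [inv_inv] at hh1
  set g := g1 * h1⁻¹ with hg
  have hgi : g * i * g⁻¹ = j * i := by
    have hc : h1⁻¹ * i = i * h1⁻¹ := (hmemC _).mp (inv_mem hh1C)
    calc g * i * g⁻¹ = g1 * (h1⁻¹ * i) * h1 * g1⁻¹ := by rw [hg]; group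
      _ = g1 * (i * h1⁻¹) * h1 * g1⁻¹ := by rw [hc]
      _ = g1 * i * g1⁻¹ := by group
      _ = j * i := hg1
  have hgji : g * (j * i) * g⁻¹ = i := by
    rw [← hh1, hg]
    group
  have hgj : g * j * g⁻¹ = j := by
    calc g * j * g⁻¹ = g * ((j * i) * i) * g⁻¹ := by rw [mul_assoc j i i, hi2, mul_one]
      _ = (g * (j * i) * g⁻¹) * (g * i * g⁻¹) := by group
      _ = i * (j * i) := by rw [hgji, hgi]
      _ = j := by rw [← mul_assoc, hij, mul_assoc, hi2, mul_one]
  -- elements whose image commutes with that of `j` commute with `j`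
  have hjifix : ∃ x : Ω, (j * i) • x = x :=
    ⟨g • a, by rw [← hgi, mul_smul, mul_smul, inv_smul_smul, hia]⟩
  have hcommj : ∀ y : Ci, π y * J = J * π y → (y : G) * j = j * y := by
    intro y hy
    set κ : Ci := ⟨j, hjC⟩⁻¹ * (y * ⟨j, hjC⟩ * y⁻¹) with hκ
    have hπκ : π κ = 1 := by
      rw [hκ, map_mul, map_mul, map_mul, map_inv, map_inv, ← hJdef, hy]
      group
    have hcm : j * (κ : G) = κ * j := hkey κ hπκ j hjC
    have hye : (y : G) * j * (y : G)⁻¹ = j * κ := by
      rw [hκ]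
      simp only [Subgroup.coe_mul, Subgroup.coe_inv]
      exact (mul_inv_cancel_left j _).symm
    have hκsq : (κ : G) * κ = 1 := by
      calc (κ : G) * κ = (j * j) * ((κ : G) * κ) := by rw [hjsq, one_mul]
        _ = j * (j * κ) * κ := by group
        _ = j * (κ * j) * κ := by rw [hcm]
        _ = (j * κ) * (j * κ) := by group
        _ = (y * j * (y : G)⁻¹) * (y * j * (y : G)⁻¹) := by rw [hye]
        _ = y * (j * j) * (y : G)⁻¹ := by group
        _ = 1 := by rw [hjsq, mul_one, mul_inv_cancel]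
    rcases hkerinv κ hπκ hκsq with h1 | h1
    · rw [h1, mul_one] at hye
      exact mul_inv_eq_iff_eq_mul.mp hye
    · exfalso
      rw [h1] at hye
      obtain ⟨x, hx⟩ := hjifix
      rw [← hye, mul_smul, mul_smul, smul_eq_iff_eq_inv_smul] at hx
      exact hjf _ hx
  -- the stabiliser of `a` and `j • a`
  have hja : i • (j • a) = j • a := by rw [← mul_smul, hij, mul_smul, hia]
  set a' : F := ⟨a, hia⟩ with ha'def
  set b' : F := ⟨j • a, hja⟩ with hb'def
  have hab' : a' ≠ b' := fun h => hjf a (congrArg Subtype.val h).symm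
  set D' := pairStab G a (j • a) with hD'
  have hD'C : D' ≤ Ci := hpairC a (j • a) (hjf a).symm hia hja
  have hiD' : i ∈ D' := mem_pairStab.mpr ⟨hia, hja⟩
  haveI := H.zgroup a
  have hD'cyc : IsCyclic D' := isCyclic_pairStab H.two (hjf a).symm
  have h4D' : 4 ∣ Nat.card D' := by
    let φ : D' →* pairStab Q a' b' :=
      MonoidHom.codRestrict (π.comp (Subgroup.inclusion hD'C)) _ (fun d => mem_pairStab.mpr
        ⟨Subtype.ext ((hπ _ _).trans (mem_pairStab.mp d.2).1),
          Subtype.ext ((hπ _ _).trans (mem_pairStab.mp d.2).2)⟩)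
    have hsurj : Function.Surjective φ := by
      intro q
      obtain ⟨u, hu⟩ := hπsurj q.1
      have hq' := mem_pairStab.mp q.2
      rw [← hu] at hq'
      exact ⟨⟨u, mem_pairStab.mpr
        ⟨congrArg Subtype.val hq'.1, congrArg Subtype.val hq'.2⟩⟩, Subtype.ext hu⟩
    have hk2 : 2 ∣ Nat.card φ.ker := by
      let ik : φ.ker := ⟨⟨i, hiD'⟩, Subtype.ext hπi⟩
      have hik : orderOf ik = 2 := by
        rw [← Subgroup.orderOf_coe, ← Subgroup.orderOf_coe]
        exact hi
      exact hik ▸ orderOf_dvd_natCard ik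
    rw [← Subgroup.index_mul_card φ.ker, Subgroup.index_ker, MonoidHom.range_eq_top.mpr hsurj,
      Subgroup.card_top, hS.card_pair a' b' hab']
    have h2' : 2 ∣ f - 1 - 1 := by
      have := Nat.even_iff.mp hfeven
      omega
    exact mul_dvd_mul h2' hk2
  obtain ⟨z, hzD, hz4, hzK⟩ : ∃ z : G, ∃ hz : z ∈ D', orderOf z = 4 ∧
      (π ⟨z, hD'C hz⟩ = 1 ∨ ∀ κ : Ci, π κ = 1 → orderOf (κ : G) ≠ 4) := by
    by_cases hex : ∃ κ : Ci, π κ = 1 ∧ orderOf (κ : G) = 4
    · obtain ⟨κ, hκ, hκ4⟩ := hex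
      exact ⟨κ, mem_pairStab.mpr ⟨hker κ hκ a hia, hker κ hκ _ hja⟩, hκ4, Or.inl hκ⟩
    · push Not at hex
      obtain ⟨u, hu⟩ := IsCyclic.exists_ofOrder_eq_natCard (α := D')
      obtain ⟨r, hr⟩ := h4D'
      refine ⟨((u ^ r : D') : G), (u ^ r).2, ?_, Or.inr hex⟩
      rw [Subgroup.orderOf_coe, orderOf_pow' u (by
        intro h
        rw [h, mul_zero] at hr
        exact Nat.card_pos.ne' hr), hu, hr, Nat.gcd_eq_right (Dvd.intro_left _ rfl),
        Nat.mul_div_cancel _ (Nat.pos_of_ne_zero fun h => by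
          rw [h, mul_zero] at hr; exact Nat.card_pos.ne' hr)]
  have hzC : z ∈ Ci := hD'C hzD
  have hz2 : z * z = i := by
    obtain ⟨t, -, htu⟩ := H.pair_unique hev (hjf a).symm
    have hzz : orderOf (z * z) = 2 := by
      rw [← pow_two, orderOf_pow' z two_ne_zero, hz4]
      decide
    have hm := mem_pairStab.mp (mul_mem hzD hzD)
    exact (htu _ hzz hm.1 hm.2).trans (htu i hi hia hja).symm
  set Z : Q := π ⟨z, hzC⟩ with hZdef
  have hZsq : Z * Z = 1 := by
    rw [hZdef, ← map_mul, ← hπi]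
    congr 1
    exact Subtype.ext hz2
  obtain ⟨σ, hσ2, hσJ, hσa, hσb, -⟩ := hS.cent_involution hJ2 hJf a'
  have hJa : J • a' = b' := Subtype.ext (hπ _ _)
  rw [hJa] at hσb
  have hZJ : Z * J = J * Z := by
    by_cases hZ1 : Z = 1
    · rw [hZ1, one_mul, mul_one]
    · obtain ⟨t, -, htu⟩ := hS.pair_involution hab'
      have hm := mem_pairStab.mp hzD
      have hZσ : Z = σ := (htu Z (orderOf_eq_prime (by rw [pow_two]; exact hZsq) hZ1)
        (Subtype.ext ((hπ _ _).trans hm.1)) (Subtype.ext ((hπ _ _).trans hm.2))).trans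
        (htu σ hσ2 hσa hσb).symm
      rw [hZσ]
      exact hσJ
  have hzj : z * j = j * z := hcommj ⟨z, hzC⟩ hZJ
  have hzi : z * i = i * z := (hmemC z).mp hzC
  set y := g * z * g⁻¹ with hy
  have hy2 : y * y = j * i := by
    calc y * y = g * (z * z) * g⁻¹ := by rw [hy]; group
      _ = j * i := by rw [hz2, hgi]
  have hyj : y * j = j * y := by
    calc y * j = g * z * g⁻¹ * (g * j * g⁻¹) := by rw [hy, hgj]
      _ = g * (z * j) * g⁻¹ := by group
      _ = g * (j * z) * g⁻¹ := by rw [hzj]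
      _ = (g * j * g⁻¹) * (g * z * g⁻¹) := by group
      _ = j * y := by rw [hgj]
  have hyC : y ∈ Ci := by
    rw [hmemC]
    have hc : z * (j * i) = (j * i) * z := by
      rw [← mul_assoc, hzj, mul_assoc, hzi, ← mul_assoc]
    calc y * i = g * z * g⁻¹ * (g * (j * i) * g⁻¹) := by rw [hy, hgji]
      _ = g * (z * (j * i)) * g⁻¹ := by group
      _ = g * ((j * i) * z) * g⁻¹ := by rw [hc]
      _ = (g * (j * i) * g⁻¹) * (g * z * g⁻¹) := by group
      _ = i * y := by rw [hgji]
  set Y : Q := π ⟨y, hyC⟩ with hYdef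
  have hYsq : Y * Y = J := by
    rw [hYdef, ← map_mul, hJdef, show (⟨y, hyC⟩ : Ci) * ⟨y, hyC⟩ = ⟨j, hjC⟩ * ⟨i, hiC⟩ from
      Subtype.ext hy2, map_mul, hπi, mul_one]
  rcases hzK with hzK | hzK
  · -- `z` is in the kernel
    obtain ⟨v, hv⟩ := hπsurj σ
    have hvj : (v : G) * j = j * v := hcommj v (by rw [hv]; exact hσJ)
    have hvi : (v : G) * i = i * v := (hmemC _).mp v.2
    have hvC' : g⁻¹ * v * g ∈ Ci := by
      rw [hmemC]
      have hc : (v : G) * (j * i) = (j * i) * v := by
        rw [← mul_assoc, hvj, mul_assoc, hvi, ← mul_assoc]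
      calc g⁻¹ * v * g * i = g⁻¹ * (v * (g * i * g⁻¹)) * g := by group
        _ = g⁻¹ * ((g * i * g⁻¹) * v) * g := by rw [hgi, hc]
        _ = i * (g⁻¹ * v * g) := by group
    have hzv := hkey ⟨z, hzC⟩ hzK _ hvC'
    have hyv : y * v = v * y := by
      calc y * (v : G) = g * (z * (g⁻¹ * v * g)) * g⁻¹ := by rw [hy]; group
        _ = g * ((g⁻¹ * v * g) * z) * g⁻¹ := by rw [← hzv]
        _ = v * y := by rw [hy]; group
    have hYσ : Y * σ = σ * Y := by
      rw [hYdef, ← hv, ← map_mul, ← map_mul]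
      congr 1
      exact Subtype.ext hyv
    have hfix : σ • (Y • a') = Y • a' := by rw [← mul_smul, ← hYσ, mul_smul, hσa]
    rcases hS.fix_two σ hσ2 a' b' (Y • a') hab' hσa hσb hfix with h | h
    · apply hJf a'
      rw [← hYsq, mul_smul, h, h]
    · apply hJf a'
      have hYJ : Y * J = J * Y := by rw [← hYsq, mul_assoc]
      have hb : Y • b' = a' := by
        calc Y • b' = (Y * J) • a' := by rw [mul_smul, hJa]
          _ = J • (Y • a') := by rw [hYJ, mul_smul]
          _ = J • J • a' := by rw [h, hJa]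
          _ = a' := smul_smul_of_orderOf_two hJ2 a'
      rw [← hYsq, mul_smul, h, hb]
  · -- the kernel has no element of order four
    obtain ⟨hQ, hhQ, hconjQ⟩ := hS.sqrt_conj he hA0ord rfl hA0semi hJA hYsq
    obtain ⟨h, rfl⟩ := hπsurj hQ
    have hhj : (h : G) * j = j * h := hcommj h hhQ
    have hhi : (h : G) * i = i * h := (hmemC _).mp h.2
    obtain ⟨k, hk⟩ := Subgroup.mem_zpowers_iff.mp hconjQ
    set κ : Ci := (⟨a0, ha0C⟩ ^ k)⁻¹ * (h * ⟨y, hyC⟩ * h⁻¹) with hκ
    have hπκ : π κ = 1 := by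
      rw [hκ, map_mul, map_mul, map_mul, map_inv, map_inv, map_zpow, ← hA0, ← hYdef, ← hk,
        inv_mul_cancel]
    have hue : (h : G) * y * (h : G)⁻¹ = a0 ^ k * κ := by
      rw [hκ]
      simp only [Subgroup.coe_mul, Subgroup.coe_inv, SubgroupClass.coe_zpow]
      exact (mul_inv_cancel_left (a0 ^ k) _).symm
    have hsq : (a0 ^ k * a0 ^ k) * ((κ : G) * κ) = j * i := by
      have hcm : a0 ^ k * (κ : G) = κ * a0 ^ k := hkey κ hπκ _ (zpow_mem ha0C k)
      calc (a0 ^ k * a0 ^ k) * ((κ : G) * κ) = a0 ^ k * (a0 ^ k * κ) * κ := by group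
        _ = a0 ^ k * (κ * a0 ^ k) * κ := by rw [hcm]
        _ = (a0 ^ k * κ) * (a0 ^ k * κ) := by group
        _ = (h * y * (h : G)⁻¹) * (h * y * (h : G)⁻¹) := by rw [hue]
        _ = h * (y * y) * (h : G)⁻¹ := by group
        _ = h * (j * i) * (h : G)⁻¹ := by rw [hy2]
        _ = ((h : G) * j) * i * (h : G)⁻¹ := by group
        _ = (j * h) * i * (h : G)⁻¹ := by rw [hhj]
        _ = j * ((h : G) * i) * (h : G)⁻¹ := by group
        _ = j * (i * h) * (h : G)⁻¹ := by rw [hhi]
        _ = j * i := by group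
    have hAJ : a0 ^ k * a0 ^ k = j := by
      have h1 : A0 ^ (k + k - (2 ^ (e - 1) : ℕ)) = 1 := by
        rw [zpow_sub, zpow_add, zpow_natCast, ← hJA, mul_inv_eq_one, hk]
        calc π h * Y * (π h)⁻¹ * (π h * Y * (π h)⁻¹) = π h * (Y * Y) * (π h)⁻¹ := by group
          _ = J := by rw [hYsq, hhQ, mul_inv_cancel_right]
      have h3 := hπinj _ h1
      rw [zpow_sub, zpow_add, zpow_natCast, ← hj, mul_inv_eq_one] at h3
      exact h3
    rw [hAJ] at hsq
    have hκ2 : (κ : G) * κ = i := mul_left_cancel hsq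
    refine hzK κ hπκ ?_
    rw [show (4 : ℕ) = 2 ^ (1 + 1) from rfl]
    refine orderOf_eq_prime_pow (p := 2) (n := 1) ?_ ?_
    · rw [pow_one, pow_two, hκ2]
      exact hi1
    · rw [show (2 : ℕ) ^ (1 + 1) = 2 * 2 from rfl, pow_mul, pow_two (κ : G), hκ2, pow_two, hi2]

end Cfsg.Agent.CycZProd
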