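import Cfsg.Agent.CycZProd.Large

/-!
# Doubly transitive groups of even degree with Z-group stabilisers and a semiregular cyclic 2-part

Such a group has degree two, or degree `p + 1` with pair stabilisers of order `p - 1`.
-/

set_option autoImplicit false

namespace Cfsg.Agent.CycZProd

universe u

variable {G Ω : Type*} [Group G] [Finite G] [MulAction G Ω] [FaithfulSMul G Ω] [Finite Ω]

theorem MainHyp.step (H : MainHyp G Ω) (IH : FixIH G Ω) : MainConcl G Ω := by
  rcases H.two_or_even_pair with h | hev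
  · exact Or.inl h
  by_cases hn2 : Nat.card Ω = 2
  · exact Or.inl hn2
  obtain ⟨a⟩ := H.nonempty
  obtain ⟨j, -, hj⟩ := H.exists_fpf
  have hab : a ≠ j • a := (hj a).symm
  obtain ⟨i, ⟨hi, hia, hib⟩, -⟩ := H.pair_unique hev hab
  by_cases h3 : ∃ c : Ω, i • c = c ∧ c ≠ a ∧ c ≠ j • a
  · obtain ⟨c, hc, hca, hcb⟩ := h3
    exact (H.case_large IH hev hab hca hcb hi hia hib hc).elim
  · refine H.case_two hev hab hi hia hib (fun c hc => ?_) hn2
    by_contra! hcon
    exact h3 ⟨c, hc, hcon.1, hcon.2⟩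

omit [FaithfulSMul G Ω] in
theorem fixed_card_lt [FaithfulSMul G Ω] {i : G} (hi : i ≠ 1) :
    Nat.card {x : Ω // i • x = x} < Nat.card Ω := by
  classical
  haveI := Fintype.ofFinite Ω
  obtain ⟨x, hx⟩ : ∃ x : Ω, i • x ≠ x := by
    by_contra! hall
    exact hi (eq_of_smul_eq_smul (α := Ω) fun y => by rw [hall y, one_smul])
  rw [Nat.card_eq_fintype_card, Nat.card_eq_fintype_card]
  exact Fintype.card_subtype_lt hx

theorem mainThm_perm : ∀ (n : ℕ) {Ω : Type u} [Finite Ω], Nat.card Ω = n →
    ∀ H : Subgroup (Equiv.Perm Ω), MainHyp H Ω → MainConcl H Ω := by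
  intro n
  induction n using Nat.strong_induction_on with
  | _ n ih =>
    intro Ω _ hn H hH
    refine hH.step fun i K hi hK => ?_
    exact ih _ (hn ▸ fixed_card_lt hi) rfl K hK

/-- The main theorem. -/
theorem mainThm (H : MainHyp G Ω) : MainConcl G Ω :=
  H.step fun _ K _ hK => mainThm_perm _ rfl K hK

end Cfsg.Agent.CycZProd
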