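import Cfsg.Agent.CycZProd.Count

/-!
# Sharply triply transitive groups on `q + 1` points, `q` an odd prime
-/

set_option autoImplicit false

namespace Cfsg.Agent.CycZProd

open scoped Classical

variable {G Ω : Type*} [Group G] [MulAction G Ω]

/-- The standing hypotheses: doubly transitive on `q + 1` points, `q` an odd prime, Z-group point
stabilisers and pair stabilisers of order `q - 1`. -/
structure SharpHyp (G Ω : Type*) [Group G] [MulAction G Ω] (q : ℕ) : Prop where
  two : TwoTrans G Ω
  prime : q.Prime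
  three_le : 3 ≤ q
  card_eq : Nat.card Ω = q + 1
  zgroup : ∀ a : Ω, IsZGroup (MulAction.stabilizer G a)
  card_pair : ∀ a b : Ω, a ≠ b → Nat.card (pairStab G a b) = q - 1

variable {q : ℕ} [Finite G] [FaithfulSMul G Ω] [Finite Ω]

theorem SharpHyp.odd_q (H : SharpHyp G Ω q) : q % 2 = 1 :=
  (H.prime.eq_two_or_odd).resolve_left (by have := H.three_le; omega)

theorem SharpHyp.even_card (H : SharpHyp G Ω q) : Even (Nat.card Ω) := by
  rw [Nat.even_iff, H.card_eq]
  have := H.odd_q
  omega

theorem SharpHyp.fix_three (H : SharpHyp G Ω q) {g : G} {a b c : Ω} (hab : a ≠ b) (hca : c ≠ a)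
    (hcb : c ≠ b) (ha : g • a = a) (hb : g • b = b) (hc : g • c = c) : g = 1 := by
  haveI := H.zgroup a
  obtain ⟨C, hle, hcyc, hnorm, hcomm, hself, hsemi, hdvd⟩ := exists_stab_core H.two a
  rw [H.card_eq, Nat.add_sub_cancel] at hdvd
  have hCq : Nat.card C = q := by
    rcases (Nat.dvd_prime H.prime).mp hdvd with h | h
    · exfalso
      have hbot : C = ⊥ := Subgroup.card_eq_one.mp h
      have hB : MulAction.stabilizer G a ≤ C := fun x hx => hself x hx (by
        intro c hc
        rw [hbot, Subgroup.mem_bot] at hc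
        rw [hc, mul_one, one_mul])
      obtain ⟨x, hxa, hxb⟩ := H.two a b a c hab hca.symm
      have := hB (MulAction.mem_stabilizer_iff.mpr hxa)
      rw [hbot, Subgroup.mem_bot] at this
      rw [this, one_smul] at hxb
      exact hcb hxb.symm
    · exact h
  let φ : C → {x : Ω // x ≠ a} := fun γ => ⟨(γ : G) • b, fun h => hab (by
    have : (γ : G) • b = (γ : G) • a := by rw [MulAction.mem_stabilizer_iff.mp (hle γ.2)]; exact h
    exact (smul_left_cancel _ this).symm)⟩
  have hinj : Function.Injective φ := by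
    intro x y h
    have h' : (x : G) • b = (y : G) • b := congrArg Subtype.val h
    have := hsemi _ (mul_mem (inv_mem y.2) x.2) b hab.symm
      (by rw [mul_smul, h', inv_smul_smul])
    exact Subtype.ext (inv_mul_eq_one.mp this).symm
  haveI := Fintype.ofFinite C
  haveI := Fintype.ofFinite Ω
  have hsurj : Function.Surjective φ := by
    apply ((Fintype.bijective_iff_injective_and_card φ).mpr ⟨hinj, ?_⟩).2
    rw [← Nat.card_eq_fintype_card, hCq, Fintype.card_subtype_compl, Fintype.card_subtype_eq,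
      ← Nat.card_eq_fintype_card, H.card_eq, Nat.add_sub_cancel]
  obtain ⟨γ, hγ⟩ := hsurj ⟨c, hca⟩
  have hγb : (γ : G) • b = c := congrArg Subtype.val hγ
  have hga : g ∈ MulAction.stabilizer G a := MulAction.mem_stabilizer_iff.mpr ha
  have hγ' := hnorm g hga γ γ.2
  have hfix : ((γ : G)⁻¹ * (g * γ * g⁻¹)) • b = b := by
    rw [mul_smul, mul_smul, mul_smul]
    have : g⁻¹ • b = b := by rw [inv_smul_eq_iff, hb]
    rw [this, hγb, hc, ← hγb, inv_smul_smul]
  have hcm := hsemi _ (mul_mem (inv_mem γ.2) hγ') b hab.symm hfix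
  rw [inv_mul_eq_one] at hcm
  have hγ1 : (γ : G) ≠ 1 := by
    intro h
    rw [h, one_smul] at hγb
    exact hcb hγb.symm
  have hgC : g ∈ C := by
    apply hself g hga
    intro x hx
    have hgen : x ∈ Subgroup.zpowers (γ : G) := by
      refine mem_zpowers_of_orderOf_dvd hcyc γ.2 hx ?_
      have h1 : orderOf (γ : G) = q := by
        rcases (Nat.dvd_prime H.prime).mp
          (hCq ▸ (Subgroup.orderOf_coe γ).symm ▸ orderOf_dvd_natCard γ) with h | h
        · exact absurd (orderOf_eq_one_iff.mp h) hγ1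
        · exact h
      rw [h1, ← hCq, show x = ((⟨x, hx⟩ : C) : G) from rfl, Subgroup.orderOf_coe]
      exact orderOf_dvd_natCard _
    obtain ⟨k, rfl⟩ := Subgroup.mem_zpowers_iff.mp hgen
    have : Commute g (γ : G) := by
      change g * γ = γ * g
      exact mul_inv_eq_iff_eq_mul.mp hcm.symm
    exact (this.zpow_right k).eq
  exact hsemi g hgC b hab.symm hb

theorem SharpHyp.pair_involution (H : SharpHyp G Ω q) {a b : Ω} (hab : a ≠ b) :
    ∃ t : G, (orderOf t = 2 ∧ t • a = a ∧ t • b = b) ∧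
      ∀ t' : G, orderOf t' = 2 → t' • a = a → t' • b = b → t' = t := by
  haveI := H.zgroup a
  haveI := Fact.mk Nat.prime_two
  have hcyc := isCyclic_pairStab H.two hab
  have h2 : 2 ∣ Nat.card (pairStab G a b) := by
    rw [H.card_pair a b hab]
    have := H.odd_q
    omega
  obtain ⟨t, ht⟩ := exists_prime_orderOf_dvd_card' 2 h2
  refine ⟨t, ⟨by rw [Subgroup.orderOf_coe, ht], (mem_pairStab.mp t.2).1,
    (mem_pairStab.mp t.2).2⟩, fun t' ht' h1 h3 => ?_⟩
  exact involution_unique_of_cyclic hcyc t.2 (mem_pairStab.mpr ⟨h1, h3⟩)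
    (by rw [Subgroup.orderOf_coe, ht]) ht'

theorem SharpHyp.fix_two (H : SharpHyp G Ω q) (t : G) (ht : orderOf t = 2) (a b c : Ω)
    (hab : a ≠ b) (ha : t • a = a) (hb : t • b = b) (hc : t • c = c) : c = a ∨ c = b := by
  by_contra! h
  have := H.fix_three hab h.1 h.2 ha hb hc
  rw [this, orderOf_one] at ht
  exact absurd ht (by decide)

theorem SharpHyp.count (H : SharpHyp G Ω q) {a b : Ω} (hab : a ≠ b) :
    2 * {t : G | orderOf t = 2 ∧ t • a = b ∧ ∃ c : Ω, t • c = c}.ncard + 2 = Nat.card Ω :=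
  swapper_count H.two H.even_card (fun _ _ h => H.pair_involution h) H.fix_two hab

/-- Every element interchanging two points is an involution. -/
theorem SharpHyp.swap_involution (H : SharpHyp G Ω q) {j : G} (hj : orderOf j = 2)
    (hfpf : ∀ x : Ω, j • x ≠ x) {a b : Ω} (hab : a ≠ b) {g : G} (hga : g • a = b)
    (hgb : g • b = a) : orderOf g = 2 := by
  haveI := H.zgroup a
  haveI := Fintype.ofFinite G
  obtain ⟨t, ht2, hta, htfpf⟩ := exists_fpf_swapper H.two hj hfpf hab
  have htb : t • b = a := by rw [← hta]; exact smul_smul_of_orderOf_two ht2 a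
  set D := pairStab G a b with hD
  have hcyc := isCyclic_pairStab H.two hab
  have hcommD : ∀ u ∈ D, ∀ v ∈ D, u * v = v * u := fun u hu v hv =>
    congrArg Subtype.val (IsMulCommutative.is_comm.comm (⟨u, hu⟩ : D) ⟨v, hv⟩)
  let Dm : Subgroup G :=
    { carrier := {d | d ∈ D ∧ t * d * t = d⁻¹}
      one_mem' := ⟨one_mem D, by rw [mul_one, sq_eq_one_of_orderOf_two ht2, inv_one]⟩
      mul_mem' := by
        rintro x y ⟨hx, hx'⟩ ⟨hy, hy'⟩
        refine ⟨mul_mem hx hy, ?_⟩
        rw [hcommD x hx y hy, mul_inv_rev, ← hx', ← hy',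
          show t * (y * x) * t = t * y * (t * t) * x * t by
            rw [sq_eq_one_of_orderOf_two ht2]; group]
        have e1 : t * y * (t * t) * x * t = (t * y * t) * (t * x * t) := by group
        rw [e1, hx', hy']
        exact hcommD _ (inv_mem hy) _ (inv_mem hx)
      inv_mem' := by
        rintro x ⟨hx, hx'⟩
        refine ⟨inv_mem hx, ?_⟩
        have := congrArg (·⁻¹) hx'
        simpa [mul_inv_rev, inv_eq_self_of_orderOf_two ht2, mul_assoc] using this }
  have hle : Dm ≤ D := fun x hx => hx.1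
  have hmap : ∀ t' : G, orderOf t' = 2 → t' • a = b → t * t' ∈ Dm := by
    intro t' ht' h'
    have h'b : t' • b = a := by rw [← h']; exact smul_smul_of_orderOf_two ht' a
    refine ⟨mem_pairStab.mpr ⟨?_, ?_⟩, ?_⟩
    · rw [mul_smul, h', htb]
    · rw [mul_smul, h'b, hta]
    · rw [mul_inv_rev, inv_eq_self_of_orderOf_two ht', inv_eq_self_of_orderOf_two ht2,
        ← mul_assoc, sq_eq_one_of_orderOf_two ht2, one_mul]
  -- the swappers give more than half of the pair stabiliser
  let S1 : Set G := {u : G | orderOf u = 2 ∧ u • a = b ∧ ∃ c : Ω, u • c = c}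
  have hS : (insert t S1).ncard ≤ Nat.card Dm := by
    rw [← Nat.card_coe_set_eq]
    refine Nat.card_le_card_of_injective (fun u => ⟨t * u.1, ?_⟩) ?_
    · rcases u.2 with h | ⟨h1, h2, -⟩
      · rw [h]; exact hmap t ht2 hta
      · exact hmap _ h1 h2
    · intro u v huv
      exact Subtype.ext (mul_left_cancel (congrArg Subtype.val huv))
  have htS : t ∉ S1 := fun ⟨_, _, c, hc⟩ => htfpf c hc
  rw [Set.ncard_insert_of_notMem htS] at hS
  have hcount : 2 * S1.ncard + 2 = Nat.card Ω := H.count hab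
  rw [H.card_eq] at hcount
  have hDmD : Dm = D := by
    by_contra hne
    have hcard : Nat.card D = q - 1 := H.card_pair a b hab
    obtain ⟨k, hk⟩ := Subgroup.card_dvd_of_le hle
    have hk2 : 2 ≤ k := by
      rcases k with _ | _ | k
      · rw [mul_zero] at hk; exact absurd hk Nat.card_pos.ne'
      · exact absurd (Subgroup.eq_of_le_of_card_ge hle (by rw [hk]; simp)) hne
      · omega
    rw [hcard] at hk
    have : Nat.card Dm * 2 ≤ Nat.card Dm * k := Nat.mul_le_mul_left _ hk2
    have := H.three_le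
    omega
  have hδ : t * g ∈ Dm := by
    rw [hDmD]
    exact mem_pairStab.mpr ⟨by rw [mul_smul, hga, htb], by rw [mul_smul, hgb, hta]⟩
  have hsq : g * g = 1 := by
    have h := hδ.2
    have e : g = t * (t * g) := by rw [← mul_assoc, sq_eq_one_of_orderOf_two ht2, one_mul]
    calc g * g = t * (t * g) * (t * (t * g)) := by rw [← e]
      _ = (t * (t * g) * t) * (t * g) := by group
      _ = 1 := by rw [h, inv_mul_cancel]
  refine orderOf_eq_prime (by rw [pow_two]; exact hsq) fun h => hab ?_
  rw [← hga, h, one_smul]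

/-- The fixed-point-free involutions interchanging a given pair are conjugate under the pair
stabiliser. -/
theorem SharpHyp.fpf_swappers_conj (H : SharpHyp G Ω q) {j : G} (hj : orderOf j = 2)
    (hfpf : ∀ x : Ω, j • x ≠ x) {a b : Ω} (hab : a ≠ b) {t u : G}
    (ht : t • a = b) (ht2 : orderOf t = 2) (htf : ∀ x : Ω, t • x ≠ x)
    (hu : u • a = b) (hu2 : orderOf u = 2) (huf : ∀ x : Ω, u • x ≠ x) :
    ∃ d ∈ pairStab G a b, u = d * t * d⁻¹ := by
  haveI := H.zgroup a
  haveI := Fintype.ofFinite G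
  have htb : t • b = a := by rw [← ht]; exact smul_smul_of_orderOf_two ht2 a
  set D := pairStab G a b with hD
  have hcyc := isCyclic_pairStab H.two hab
  let allS : Finset G := Finset.univ.filter fun g => g • a = b ∧ g • b = a
  let fixS : Finset G := allS.filter fun g => ∃ c : Ω, g • c = c
  let fpfS : Finset G := allS.filter fun g => ¬ ∃ c : Ω, g • c = c
  let Dfin : Finset G := Finset.univ.filter fun g => g ∈ D
  have hDcard : Dfin.card = q - 1 := by
    rw [← H.card_pair a b hab, Nat.card_eq_fintype_card, Fintype.card_subtype]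
  have hall : allS.card = q - 1 := by
    rw [← hDcard]
    refine Finset.card_bij (fun g _ => t * g) ?_ ?_ ?_
    · intro g hg
      simp only [allS, Finset.mem_filter, Finset.mem_univ, true_and] at hg
      simp only [Dfin, Finset.mem_filter, Finset.mem_univ, true_and]
      exact mem_pairStab.mpr ⟨by rw [mul_smul, hg.1, htb], by rw [mul_smul, hg.2, ht]⟩
    · intro x _ y _ h
      exact mul_left_cancel h
    · intro d hd
      simp only [Dfin, Finset.mem_filter, Finset.mem_univ, true_and] at hd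
      refine ⟨t * d, ?_, by rw [← mul_assoc, sq_eq_one_of_orderOf_two ht2, one_mul]⟩
      simp only [allS, Finset.mem_filter, Finset.mem_univ, true_and]
      have := mem_pairStab.mp hd
      exact ⟨by rw [mul_smul, this.1, ht], by rw [mul_smul, this.2, htb]⟩
  have hfix : 2 * fixS.card + 2 = q + 1 := by
    rw [← H.card_eq, ← H.count hab, ← Set.ncard_coe_finset]
    congr 3
    ext g
    simp only [fixS, allS, Finset.coe_filter, Finset.mem_filter, Finset.mem_univ, true_and,
      Set.mem_setOf_eq]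
    constructor
    · rintro ⟨⟨h1, h3⟩, h4⟩
      exact ⟨H.swap_involution hj hfpf hab h1 h3, h1, h4⟩
    · rintro ⟨h0, h1, h4⟩
      exact ⟨⟨h1, by rw [← h1]; exact smul_smul_of_orderOf_two h0 a⟩, h4⟩
  have hsum : fixS.card + fpfS.card = allS.card :=
    Finset.card_filter_add_card_filter_not _
  let orb : Finset G := Dfin.image fun d => d * t * d⁻¹
  have horb : orb ⊆ fpfS := by
    intro x hx
    simp only [orb, Finset.mem_image, Dfin, Finset.mem_filter, Finset.mem_univ, true_and] at hx
    obtain ⟨d, hd, rfl⟩ := hx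
    have hd' := mem_pairStab.mp hd
    have hda : d⁻¹ • a = a := by rw [inv_smul_eq_iff, hd'.1]
    have hdb : d⁻¹ • b = b := by rw [inv_smul_eq_iff, hd'.2]
    simp only [fpfS, allS, Finset.mem_filter, Finset.mem_univ, true_and, not_exists]
    refine ⟨⟨?_, ?_⟩, fun c hc => htf (d⁻¹ • c) ?_⟩
    · rw [mul_smul, mul_smul, hda, ht, hd'.2]
    · rw [mul_smul, mul_smul, hdb, htb, hd'.1]
    · rw [mul_smul, mul_smul, smul_eq_iff_eq_inv_smul] at hc
      exact hc
  obtain ⟨ι, ⟨hι2, hιa, hιb⟩, hιu⟩ := H.pair_involution hab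
  have hfib : Dfin.card ≤ 2 * orb.card := by
    refine Finset.card_le_mul_card_image _ _ fun x hx => ?_
    simp only [Finset.mem_image, Dfin, Finset.mem_filter, Finset.mem_univ, true_and] at hx
    obtain ⟨d, hd, rfl⟩ := hx
    refine (Finset.card_le_card (t := ({d, d * ι} : Finset G)) ?_).trans Finset.card_le_two
    intro e he
    simp only [Dfin, Finset.mem_filter, Finset.mem_univ, true_and] at he
    obtain ⟨he, heq⟩ := he
    have hδ : d⁻¹ * e ∈ D := mul_mem (inv_mem hd) he
    have hcm : (d⁻¹ * e) * t = t * (d⁻¹ * e) := by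
      calc d⁻¹ * e * t = d⁻¹ * (e * t * e⁻¹) * e := by group
        _ = d⁻¹ * (d * t * d⁻¹) * e := by rw [heq]
        _ = t * (d⁻¹ * e) := by group
    have hinv : orderOf (t * (d⁻¹ * e)) = 2 := by
      have h' := mem_pairStab.mp hδ
      exact H.swap_involution hj hfpf hab (by rw [mul_smul, h'.1, ht])
        (by rw [mul_smul, h'.2, htb])
    have hsq : (d⁻¹ * e) * (d⁻¹ * e) = 1 := by
      have h1 := sq_eq_one_of_orderOf_two hinv
      have h3 := sq_eq_one_of_orderOf_two ht2
      calc (d⁻¹ * e) * (d⁻¹ * e) = (t * t) * ((d⁻¹ * e) * (d⁻¹ * e)) := by rw [h3, one_mul]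
        _ = t * ((t * (d⁻¹ * e)) * (d⁻¹ * e)) := by group
        _ = t * (((d⁻¹ * e) * t) * (d⁻¹ * e)) := by rw [hcm]
        _ = (t * (d⁻¹ * e)) * (t * (d⁻¹ * e)) := by group
        _ = 1 := h1
    simp only [Finset.mem_insert, Finset.mem_singleton]
    by_cases h1 : d⁻¹ * e = 1
    · exact Or.inl (inv_mul_eq_one.mp h1).symm
    · right
      have := hιu _ (orderOf_eq_prime (by rw [pow_two]; exact hsq) h1)
        (mem_pairStab.mp hδ).1 (mem_pairStab.mp hδ).2
      rw [← this, mul_inv_cancel_left]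
  have heq : orb = fpfS := Finset.eq_of_subset_of_card_le horb (by
    have := H.three_le
    omega)
  have hmem : u ∈ fpfS := by
    simp only [fpfS, allS, Finset.mem_filter, Finset.mem_univ, true_and, not_exists]
    exact ⟨⟨hu, by rw [← hu]; exact smul_smul_of_orderOf_two hu2 a⟩, huf⟩
  rw [← heq] at hmem
  simp only [orb, Finset.mem_image, Dfin, Finset.mem_filter, Finset.mem_univ, true_and] at hmem
  obtain ⟨d, hd, hd'⟩ := hmem
  exact ⟨d, hd, hd'.symm⟩

/-- All fixed-point-free involutions are conjugate. -/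
theorem SharpHyp.fpf_conj (H : SharpHyp G Ω q) {t u : G}
    (ht2 : orderOf t = 2) (htf : ∀ x : Ω, t • x ≠ x)
    (hu2 : orderOf u = 2) (huf : ∀ x : Ω, u • x ≠ x) :
    ∃ g : G, g * u * g⁻¹ = t := by
  haveI : Nonempty Ω := by
    rcases isEmpty_or_nonempty Ω with h | h
    · have := H.card_eq
      rw [Nat.card_of_isEmpty] at this
      omega
    · exact h
  obtain ⟨a⟩ := ‹Nonempty Ω›
  obtain ⟨g, hga, hgb⟩ := H.two a (u • a) a (t • a) (huf a).symm (htf a).symm
  have h1 : (g * u * g⁻¹) • a = t • a := by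
    rw [mul_smul, mul_smul, show g⁻¹ • a = a by rw [inv_smul_eq_iff, hga]]
    exact hgb
  obtain ⟨d, -, hd⟩ := H.fpf_swappers_conj ht2 htf (htf a).symm (t := g * u * g⁻¹) h1
    ((conj_orderOf g u).trans hu2) (fun x hx => huf (g⁻¹ • x) (by
      rwa [mul_smul, mul_smul, smul_eq_iff_eq_inv_smul] at hx)) rfl ht2 htf
  refine ⟨d * g, ?_⟩
  rw [hd]
  group

/-- The centraliser of a fixed-point-free involution is transitive. -/
theorem SharpHyp.cent_transitive (H : SharpHyp G Ω q) {j : G} (hj : orderOf j = 2)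
    (hfpf : ∀ x : Ω, j • x ≠ x) (a c : Ω) : ∃ h : G, h * j = j * h ∧ h • a = c := by
  obtain ⟨g, hga, hgb⟩ := H.two a (j • a) c (j • c) (hfpf a).symm (hfpf c).symm
  have h1 : (g * j * g⁻¹) • c = j • c := by
    rw [mul_smul, mul_smul, show g⁻¹ • c = a by rw [inv_smul_eq_iff, hga]]
    exact hgb
  obtain ⟨d, hd, hd'⟩ := H.fpf_swappers_conj hj hfpf (hfpf c).symm (t := g * j * g⁻¹) h1
    ((conj_orderOf g j).trans hj) (fun x hx => hfpf (g⁻¹ • x) (by
      rwa [mul_smul, mul_smul, smul_eq_iff_eq_inv_smul] at hx)) rfl hj hfpf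
  refine ⟨d * g, ?_, by rw [mul_smul, hga, (mem_pairStab.mp hd).1]⟩
  conv_rhs => rw [hd']
  group

/-- An element of a pair stabiliser `a, j a` commuting with `j` squares to one. -/
theorem SharpHyp.cent_stab (H : SharpHyp G Ω q) {j : G} (hj : orderOf j = 2)
    (hfpf : ∀ x : Ω, j • x ≠ x) {a : Ω} {h : G} (hcomm : h * j = j * h) (ha : h • a = a) :
    h • (j • a) = j • a ∧ h * h = 1 := by
  have hja : h • (j • a) = j • a := by rw [← mul_smul, hcomm, mul_smul, ha]
  refine ⟨hja, ?_⟩
  have hinv : orderOf (j * h) = 2 :=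
    H.swap_involution hj hfpf (hfpf a).symm (by rw [mul_smul, ha])
      (by rw [mul_smul, hja, smul_smul_of_orderOf_two hj])
  have h1 := sq_eq_one_of_orderOf_two hinv
  have h3 := sq_eq_one_of_orderOf_two hj
  calc h * h = (j * j) * (h * h) := by rw [h3, one_mul]
    _ = j * ((j * h) * h) := by group
    _ = j * ((h * j) * h) := by rw [hcomm]
    _ = (j * h) * (j * h) := by group
    _ = 1 := h1

theorem SharpHyp.cent_involution (H : SharpHyp G Ω q) {j : G} (hj : orderOf j = 2)
    (hfpf : ∀ x : Ω, j • x ≠ x) (a : Ω) :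
    ∃ σ : G, orderOf σ = 2 ∧ σ * j = j * σ ∧ σ • a = a ∧ σ • (j • a) = j • a ∧
      ∀ h : G, h * j = j * h → h • a = a → h = 1 ∨ h = σ := by
  obtain ⟨σ, ⟨hσ2, hσa, hσb⟩, hu⟩ := H.pair_involution (hfpf a).symm
  have hconj := hu (j * σ * j⁻¹) ((conj_orderOf j σ).trans hσ2)
    (by rw [mul_smul, mul_smul, inv_eq_self_of_orderOf_two hj, hσb, smul_smul_of_orderOf_two hj])
    (by rw [mul_smul, mul_smul, inv_smul_smul, hσa])
  have hcomm : σ * j = j * σ := (mul_inv_eq_iff_eq_mul.mp hconj).symm
  refine ⟨σ, hσ2, hcomm, hσa, hσb, fun h hh ha => ?_⟩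
  obtain ⟨hb, hsq⟩ := H.cent_stab hj hfpf hh ha
  by_cases h1 : h = 1
  · exact Or.inl h1
  · exact Or.inr (hu h (orderOf_eq_prime (by rw [pow_two]; exact hsq) h1) ha hb)

/-- The order of the centraliser of a fixed-point-free involution. -/
theorem SharpHyp.card_cent (H : SharpHyp G Ω q) {j : G} (hj : orderOf j = 2)
    (hfpf : ∀ x : Ω, j • x ≠ x) :
    Nat.card (Subgroup.centralizer ({j} : Set G)) = 2 * Nat.card Ω := by
  haveI := Fintype.ofFinite G
  have hne : Nonempty Ω := by
    rcases isEmpty_or_nonempty Ω with h | h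
    · have := H.card_eq
      rw [Nat.card_of_isEmpty] at this
      omega
    · exact h
  obtain ⟨a⟩ := hne
  let Cj : Subgroup G := Subgroup.centralizer ({j} : Set G)
  have hmem : ∀ g : G, g ∈ Cj ↔ g * j = j * g := fun g => Subgroup.mem_centralizer_singleton_iff
  haveI : MulAction.IsPretransitive Cj Ω := ⟨fun u v => by
    obtain ⟨h, hh, ha⟩ := H.cent_transitive hj hfpf u v
    exact ⟨⟨h, (hmem h).mpr hh⟩, ha⟩⟩
  obtain ⟨σ, hσ2, hσj, hσa, -, hσu⟩ := H.cent_involution hj hfpf a
  have hstab : Nat.card (MulAction.stabilizer Cj a) = 2 := by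
    let s : MulAction.stabilizer Cj a := ⟨⟨σ, (hmem σ).mpr hσj⟩, hσa⟩
    have hs1 : s ≠ 1 := fun h => by
      have : σ = 1 := congrArg (fun x : MulAction.stabilizer Cj a => ((x : Cj) : G)) h
      rw [this, orderOf_one] at hσ2
      exact absurd hσ2 (by decide)
    rw [Nat.card_eq_two_iff]
    refine ⟨1, s, hs1.symm, ?_⟩
    ext x
    simp only [Set.mem_insert_iff, Set.mem_singleton_iff, Set.mem_univ, iff_true]
    rcases hσu ((x : Cj) : G) ((hmem _).mp (x : Cj).2) x.2 with h | h
    · exact Or.inl (Subtype.ext (Subtype.ext h))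
    · exact Or.inr (Subtype.ext (Subtype.ext h))
  rw [← Subgroup.index_mul_card (MulAction.stabilizer Cj a),
    MulAction.index_stabilizer_of_transitive, hstab, mul_comm]

/-- Triple transitivity. -/
theorem SharpHyp.three_trans (H : SharpHyp G Ω q) {a b c a' b' c' : Ω} (hab : a ≠ b)
    (hca : c ≠ a) (hcb : c ≠ b) (hab' : a' ≠ b') (hca' : c' ≠ a') (hcb' : c' ≠ b') :
    ∃ g : G, g • a = a' ∧ g • b = b' ∧ g • c = c' := by
  obtain ⟨g, hga, hgb⟩ := H.two a b a' b' hab hab'
  haveI := Fintype.ofFinite (pairStab G a' b')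
  haveI := Fintype.ofFinite Ω
  have hgc1 : g • c ≠ a' := fun h => hca (smul_left_cancel g (h.trans hga.symm))
  have hgc2 : g • c ≠ b' := fun h => hcb (smul_left_cancel g (h.trans hgb.symm))
  let φ : pairStab G a' b' → {x : Ω // x ∉ ({a', b'} : Finset Ω)} := fun d =>
    ⟨(d : G) • (g • c), by
      simp only [Finset.mem_insert, Finset.mem_singleton, not_or]
      have := mem_pairStab.mp d.2
      exact ⟨fun h => hgc1 (smul_left_cancel _ (h.trans this.1.symm)),
        fun h => hgc2 (smul_left_cancel _ (h.trans this.2.symm))⟩⟩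
  have hinj : Function.Injective φ := by
    intro x y h
    have h' : (x : G) • (g • c) = (y : G) • (g • c) := congrArg Subtype.val h
    have hm := mem_pairStab.mp (mul_mem (inv_mem y.2) x.2)
    have := H.fix_three hab' hgc1 hgc2 hm.1 hm.2 (by rw [mul_smul, h', inv_smul_smul])
    exact Subtype.ext (inv_mul_eq_one.mp this).symm
  have hsurj : Function.Surjective φ := by
    apply ((Fintype.bijective_iff_injective_and_card φ).mpr ⟨hinj, ?_⟩).2
    rw [← Nat.card_eq_fintype_card, H.card_pair a' b' hab', Fintype.card_subtype_compl,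
      Fintype.card_coe, Finset.card_pair hab', ← Nat.card_eq_fintype_card, H.card_eq]
    omega
  obtain ⟨d, hd⟩ := hsurj ⟨c', by simp [hca', hcb']⟩
  have := mem_pairStab.mp d.2
  exact ⟨d * g, by rw [mul_smul, hga, this.1], by rw [mul_smul, hgb, this.2],
    by rw [mul_smul]; exact congrArg Subtype.val hd⟩

/-- In the centraliser of a fixed-point-free involution `j` lying in a semiregular cyclic
2-group of maximal order, every square root of `j` is conjugate into that cyclic group. -/
theorem SharpHyp.sqrt_conj (H : SharpHyp G Ω q) {x : G} {e : ℕ} (he : 1 ≤ e)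
    (hx : orderOf x = 2 ^ e) (hmax : (Nat.card Ω).factorization 2 = e)
    (hsemi : ∀ k : ℤ, x ^ k ≠ 1 → ∀ a : Ω, x ^ k • a ≠ a) {j y : G}
    (hjx : j = x ^ 2 ^ (e - 1)) (hy : y * y = j) :
    ∃ h : G, h * j = j * h ∧ h * y * h⁻¹ ∈ Subgroup.zpowers x := by
  haveI := Fintype.ofFinite G
  haveI := Fact.mk Nat.prime_two
  have hsplit : 2 ^ e = 2 ^ (e - 1) * 2 := by
    rw [← pow_succ, Nat.sub_add_cancel he]
  have hj : orderOf j = 2 := by
    rw [hjx, orderOf_pow' x (pow_ne_zero _ two_ne_zero), hx]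
    rw [Nat.gcd_eq_right (Dvd.intro _ hsplit.symm), hsplit,
      Nat.mul_div_cancel_left _ (Nat.pos_of_ne_zero (pow_ne_zero _ two_ne_zero))]
  have hj1 : j ≠ 1 := fun h => by rw [h, orderOf_one] at hj; exact absurd hj (by decide)
  have hfpf : ∀ a : Ω, j • a ≠ a := by
    intro a
    have h := hsemi (2 ^ (e - 1) : ℕ) (by rw [zpow_natCast, ← hjx]; exact hj1) a
    rwa [zpow_natCast, ← hjx] at h
  have hne : Nonempty Ω := by
    rcases isEmpty_or_nonempty Ω with h | h
    · have := H.card_eq
      rw [Nat.card_of_isEmpty] at this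
      omega
    · exact h
  obtain ⟨a⟩ := hne
  obtain ⟨σ, hσ2, hσj, hσa, -, -⟩ := H.cent_involution hj hfpf a
  -- an involution outside `⟨x⟩` inverting `x`
  obtain ⟨r, hr2, hrx, hrT⟩ : ∃ r : G, orderOf r = 2 ∧ r * x * r = x⁻¹ ∧
      r ∉ Subgroup.zpowers x := by
    rcases Nat.lt_or_ge 1 e with he2 | he2
    · have hx1 : x ≠ 1 := fun h => by
        rw [h, orderOf_one] at hx
        have : 2 ^ 1 ≤ 2 ^ e := Nat.pow_le_pow_right (by norm_num) he
        omega
      have h4 : 4 ≤ orderOf x := by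
        rw [hx]
        calc (4 : ℕ) = 2 ^ 2 := by norm_num
          _ ≤ 2 ^ e := Nat.pow_le_pow_right (by norm_num) he2
      have hxx : x ^ (2 : ℤ) ≠ 1 := by
        intro h
        have : orderOf x ∣ 2 := orderOf_dvd_of_pow_eq_one (by exact_mod_cast h)
        have := Nat.le_of_dvd (by norm_num) this
        omega
      have hx' : x ^ (1 : ℤ) ≠ 1 := by rwa [zpow_one]
      have hn1 := hsemi 1 hx'
      have hn2 := hsemi 2 hxx
      rw [zpow_one] at hn1
      rw [zpow_two] at hn2
      have h10 : x • a ≠ a := hn1 a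
      have h20 : x • x • a ≠ a := by rw [← mul_smul]; exact hn2 a
      have h21 : x • x • a ≠ x • a := hn1 (x • a)
      have hm0 : x⁻¹ • a ≠ a := fun h => h10 (by rw [inv_smul_eq_iff] at h; exact h.symm)
      have hm1 : x⁻¹ • a ≠ x • a := fun h => h20 (by rw [inv_smul_eq_iff] at h; exact h.symm)
      obtain ⟨r, hr0, hr1, hr3⟩ := H.three_trans (a := a) (b := x • a) (c := x • x • a)
        (a' := x • a) (b' := a) (c' := x⁻¹ • a) h10.symm h20 h21 h10 hm1 hm0
      have hr2 := H.swap_involution hj hfpf h10.symm hr0 hr1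
      have hrm : r • (x⁻¹ • a) = x • x • a := by
        rw [← hr3, smul_smul_of_orderOf_two hr2]
      have hxr2 : orderOf (x * r) = 2 := H.swap_involution hj hfpf h20.symm
        (by rw [mul_smul, hr0]) (by rw [mul_smul, hr3, smul_inv_smul])
      have hinv : r * x * r = x⁻¹ := by
        have h1 := sq_eq_one_of_orderOf_two hxr2
        calc r * x * r = x⁻¹ * ((x * r) * (x * r)) := by group
          _ = x⁻¹ := by rw [h1, mul_one]
      refine ⟨r, hr2, hinv, fun hmem => ?_⟩
      obtain ⟨k, rfl⟩ := Subgroup.mem_zpowers_iff.mp hmem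
      apply hxx
      have hcomm : x ^ k * x = x * x ^ k := by rw [← zpow_add_one, ← zpow_one_add, add_comm]
      rw [hcomm, mul_assoc, sq_eq_one_of_orderOf_two hr2, mul_one] at hinv
      rw [zpow_two]
      nth_rw 1 [hinv]
      exact inv_mul_cancel x
    · have he1 : e = 1 := by omega
      subst he1
      rw [show (1 : ℕ) - 1 = 0 from rfl, pow_zero, pow_one] at hjx
      subst hjx
      refine ⟨σ, hσ2, ?_, fun hmem => ?_⟩
      · rw [hσj, mul_assoc, sq_eq_one_of_orderOf_two hσ2, mul_one]
        exact (inv_eq_self_of_orderOf_two hj).symm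
      · obtain ⟨k, rfl⟩ := Subgroup.mem_zpowers_iff.mp hmem
        refine hsemi k (fun h => ?_) a hσa
        rw [h, orderOf_one] at hσ2
        exact absurd hσ2 (by decide)
  let T : Subgroup G := Subgroup.zpowers x
  have hrr := sq_eq_one_of_orderOf_two hr2
  have hrinv := inv_eq_self_of_orderOf_two hr2
  have hrk : ∀ k : ℤ, r * x ^ k * r = x ^ (-k) := by
    intro k
    have h0 := conj_zpow (a := r) (b := x) (i := k)
    rw [hrinv] at h0
    rw [← h0, hrx, inv_zpow, zpow_neg]
  have hrT' : ∀ u ∈ T, r * u * r ∈ T := by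
    intro u hu
    obtain ⟨k, rfl⟩ := Subgroup.mem_zpowers_iff.mp hu
    rw [hrk]
    exact Subgroup.zpow_mem _ (Subgroup.mem_zpowers x) _
  let P : Subgroup G :=
    { carrier := {u | u ∈ T ∨ u * r ∈ T}
      one_mem' := Or.inl (one_mem T)
      mul_mem' := by
        rintro u v (hu | hu) (hv | hv)
        · exact Or.inl (mul_mem hu hv)
        · exact Or.inr (by rw [mul_assoc]; exact mul_mem hu hv)
        · right
          have : u * v * r = (u * r) * (r * v * r) := by
            calc u * v * r = u * (r * r) * v * r := by rw [hrr, mul_one]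
              _ = (u * r) * (r * v * r) := by group
          rw [this]
          exact mul_mem hu (hrT' v hv)
        · left
          have : u * v = (u * r) * (r * (v * r) * r) := by
            calc u * v = u * (r * r) * v * (r * r) := by rw [hrr, mul_one, mul_one]
              _ = (u * r) * (r * (v * r) * r) := by group
          rw [this]
          exact mul_mem hu (hrT' _ hv)
      inv_mem' := by
        rintro u (hu | hu)
        · exact Or.inl (inv_mem hu)
        · right
          have : u⁻¹ * r = r * (u * r)⁻¹ * r := by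
            rw [mul_inv_rev, hrinv, ← mul_assoc, hrr, one_mul]
          rw [this]
          exact hrT' _ (inv_mem hu) }
  have hTP : T ≤ P := fun u hu => Or.inl hu
  have hPcard : Nat.card P = 2 ^ (e + 1) := by
    have h1 : ((P : Set G)) = (T : Set G) ∪ (fun u => u * r) '' (T : Set G) := by
      ext u
      constructor
      · rintro (hu | hu)
        · exact Or.inl hu
        · exact Or.inr ⟨u * r, hu, by simp [mul_assoc, hrr]⟩
      · rintro (hu | ⟨v, hv, rfl⟩)
        · exact Or.inl hu
        · exact Or.inr (by rw [mul_assoc, hrr, mul_one]; exact hv)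
    have h2 : Disjoint (T : Set G) ((fun u => u * r) '' (T : Set G)) := by
      rw [Set.disjoint_left]
      rintro u hu ⟨v, hv, rfl⟩
      exact hrT ((Subgroup.mul_mem_cancel_left T hv).mp hu)
    have hT : (T : Set G).ncard = 2 ^ e := by
      rw [← Nat.card_coe_set_eq]
      exact (Nat.card_zpowers x).trans hx
    calc Nat.card P = (P : Set G).ncard := Nat.card_coe_set_eq (P : Set G)
      _ = _ := by
        rw [h1, Set.ncard_union_eq h2,
          Set.ncard_image_of_injective _ (mul_left_injective r), hT, pow_succ, mul_two]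
  let Cj : Subgroup G := Subgroup.centralizer ({j} : Set G)
  have hmem : ∀ g : G, g ∈ Cj ↔ g * j = j * g := fun g => Subgroup.mem_centralizer_singleton_iff
  have hTC : T ≤ Cj := Subgroup.zpowers_le.mpr ((hmem x).mpr (by
    rw [hjx, ← pow_succ', ← pow_succ]))
  have hrC : r ∈ Cj := by
    rw [hmem]
    have h1 : r * j * r = j⁻¹ := by
      have := hrk ((2 ^ (e - 1) : ℕ) : ℤ)
      rwa [zpow_neg, zpow_natCast, ← hjx] at this
    rw [inv_eq_self_of_orderOf_two hj] at h1
    calc r * j = (r * j * r) * r := by rw [mul_assoc (r * j) r r, hrr, mul_one]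
      _ = j * r := by rw [h1]
  have hPC : P ≤ Cj := by
    rintro u (hu | hu)
    · exact hTC hu
    · have : u = (u * r) * r := by rw [mul_assoc, hrr, mul_one]
      rw [this]
      exact mul_mem (hTC hu) hrC
  have hcardC := H.card_cent hj hfpf
  have hfac : (Nat.card Cj).factorization 2 = e + 1 := by
    have hn0 : Nat.card Ω ≠ 0 := by rw [H.card_eq]; omega
    change (Nat.card (Subgroup.centralizer ({j} : Set G))).factorization 2 = e + 1
    rw [hcardC, Nat.factorization_mul two_ne_zero hn0, Finsupp.add_apply,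
      Nat.prime_two.factorization_self, hmax, add_comm]
  let S : Sylow 2 Cj := Sylow.ofCard (P.subgroupOf Cj) (by
    rw [hfac, Nat.card_congr (Subgroup.subgroupOfEquivOfLe hPC).toEquiv, hPcard])
  have hyC : y ∈ Cj := by rw [hmem, ← hy, mul_assoc]
  have hy4 : y ^ 2 ^ 2 = 1 := by
    rw [show (2 : ℕ) ^ 2 = 2 * 2 from rfl, pow_mul, pow_two y, hy, pow_two,
      sq_eq_one_of_orderOf_two hj]
  have hyp : IsPGroup 2 (Subgroup.zpowers (⟨y, hyC⟩ : Cj)) := by
    obtain ⟨k, -, hk⟩ := (Nat.dvd_prime_pow Nat.prime_two).mp (orderOf_dvd_of_pow_eq_one hy4)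
    exact IsPGroup.iff_card.mpr ⟨k, by rw [Nat.card_zpowers, Subgroup.orderOf_mk, hk]⟩
  obtain ⟨S', hS'⟩ := hyp.exists_le_sylow
  obtain ⟨g, hg⟩ := MulAction.exists_smul_eq Cj S' S
  have hgy : g * ⟨y, hyC⟩ * g⁻¹ ∈ S := by
    rw [← hg, ← SetLike.mem_coe, Sylow.coe_smul]
    exact Set.smul_mem_smul_set (a := MulAut.conj g) (hS' (Subgroup.mem_zpowers _))
  have hgy' : ((g : G) * y * (g : G)⁻¹) ∈ P := hgy
  refine ⟨g, (hmem g).mp g.2, ?_⟩
  rcases hgy' with h | h
  · exact h
  · exfalso
    obtain ⟨k, hk⟩ := Subgroup.mem_zpowers_iff.mp h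
    have hu : (g : G) * y * (g : G)⁻¹ = x ^ k * r := by
      rw [hk, mul_assoc _ r r, hrr, mul_one]
    have hsq : (g * y * (g : G)⁻¹) * (g * y * (g : G)⁻¹) = 1 := by
      rw [hu]
      calc x ^ k * r * (x ^ k * r) = x ^ k * (r * x ^ k * r) := by group
        _ = 1 := by rw [hrk, ← zpow_add, add_neg_cancel, zpow_zero]
    apply hj1
    have : (g : G) * j * (g : G)⁻¹ = 1 := by
      rw [← hsq, ← hy]
      group
    exact conj_eq_one_iff.mp this

end Cfsg.Agent.CycZProd
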