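import Cfsg.Agent.CycZProd.Main
import Cfsg.Agent.S3559
import Cfsg.Agent.S3972
import Cfsg.Agent.S0675
import Cfsg.Agent.SylowNum.Swaps
import Cfsg.Agent.PF14.Compose

/-!
# A cyclic subgroup times a Z-subgroup with trivial solvable radical
-/

set_option autoImplicit false

namespace Cfsg.Agent.CycZProd

universe u

/-- No nontrivial solvable normal subgroup. -/
def RadTrivial (G : Type*) [Group G] : Prop :=
  ∀ N : Subgroup G, N.Normal → Group.IsSolvable N → N = ⊥

/-- The structure of a nonsolvable product with trivial radical. -/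
def Good (G : Type*) [Group G] (A B : Subgroup G) : Prop :=
  ∃ p : ℕ, p.Prime ∧ 3 < p ∧ Nat.card A = p + 1 ∧ Nat.card B = p * (p - 1) ∧
    B.index = p + 1 ∧ B.normalCore = ⊥ ∧ TwoTrans G (G ⧸ B) ∧ A ⊓ B = ⊥

theorem faithful_of_core {G : Type*} [Group G] {B : Subgroup G} (hB : B.normalCore = ⊥) :
    FaithfulSMul G (G ⧸ B) := by
  constructor
  intro g h hgh
  rw [← inv_mul_eq_one, ← Subgroup.mem_bot, ← hB, Subgroup.normalCore_eq_ker, MonoidHom.mem_ker]
  apply Equiv.ext
  intro x
  change (g⁻¹ * h) • x = x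
  rw [mul_smul, ← hgh x, inv_smul_smul]

theorem stabilizer_one_eq {G : Type*} [Group G] (B : Subgroup G) :
    MulAction.stabilizer G ((1 : G) : G ⧸ B) = B := MulAction.stabilizer_quotient B

theorem isZGroup_of_equiv {H K : Type*} [Group H] [Group K] [IsZGroup H] (e : K ≃* H) :
    IsZGroup K := IsZGroup.of_injective (f := e.toMonoidHom) e.injective

theorem isZGroup_stabilizer {G : Type*} [Group G] (B : Subgroup G) [IsZGroup B] (x : G ⧸ B) :
    IsZGroup (MulAction.stabilizer G x) := by
  induction x using QuotientGroup.induction_on with | _ g =>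
  have h : MulAction.stabilizer G ((g : G) : G ⧸ B) =
      (MulAction.stabilizer G ((1 : G) : G ⧸ B)).map (MulAut.conj g).toMonoidHom := by
    rw [← MulAction.stabilizer_smul_eq_stabilizer_map_conj]
    congr 1
    exact congrArg QuotientGroup.mk (mul_one g).symm
  rw [h, stabilizer_one_eq]
  exact isZGroup_of_equiv (B.equivMapOfInjective _ (MulAut.conj g).injective).symm

theorem subsingleton_of_card_le_four {G : Type*} [Group G] [Finite G] {B : Subgroup G}
    (hns : ¬ Group.IsSolvable G) (hB : B.normalCore = ⊥) (h : B.index ≤ 4) : False := by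
  haveI := faithful_of_core hB
  haveI := Fintype.ofFinite (G ⧸ B)
  have hcard : Fintype.card (G ⧸ B) ≤ Fintype.card (Fin 4) := by
    rw [Fintype.card_fin, ← Nat.card_eq_fintype_card]
    exact h
  obtain ⟨e⟩ := Function.Embedding.nonempty_of_card_le hcard
  classical
  let f : G →* Equiv.Perm (Fin 4) :=
    (Equiv.Perm.viaEmbeddingHom e).comp (MulAction.toPermHom G (G ⧸ B))
  have hinj : Function.Injective f :=
    (Equiv.Perm.viaEmbeddingHom_injective e).comp MulAction.toPerm_injective
  haveI := SylowNum.isSolvable_perm_four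
  exact hns (Group.isSolvable_of_isSolvable_injective hinj)

/-- A primitive group with a regular cyclic subgroup is solvable or doubly transitive. -/
theorem twoTrans_of_cyclic_regular {G : Type*} [Group G] [Finite G] {Ω : Type*} [Finite Ω]
    [MulAction G Ω] [FaithfulSMul G Ω] [MulAction.IsPretransitive G Ω] (hn : 2 ≤ Nat.card Ω)
    (hprim : MulAction.IsPreprimitive G Ω) (C : Subgroup G) (hC : IsCyclic C)
    (htr : MulAction.IsPretransitive C Ω) (hfree : ∀ a : Ω, MulAction.stabilizer C a = ⊥)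
    (hns : ¬ Group.IsSolvable G) : TwoTrans G Ω := by
  classical
  haveI := Fintype.ofFinite Ω
  by_cases hpp : IsPrimePow (Nat.card Ω)
  swap
  · rcases S3559.result (G := G) inferInstance hn hpp C hC ⟨htr, hfree⟩ with h | h
    · exact absurd hprim h
    · exact (twoTrans_iff G Ω).mpr h
  by_contra hno
  obtain ⟨p, m, hp, hm, hpm⟩ := hpp
  have hp' : p.Prime := hp.nat_prime
  let e : G →* Equiv.Perm Ω := MulAction.toPermHom G Ω
  have he : Function.Injective e := MulAction.toPerm_injective
  let P : Subgroup (Equiv.Perm Ω) := e.range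
  have hPpre : MulAction.IsPretransitive P Ω := ⟨fun a b => by
    obtain ⟨g, hg⟩ := MulAction.exists_smul_eq G a b
    exact ⟨⟨e g, g, rfl⟩, hg⟩⟩
  have hP2 : MulAction.IsMultiplyPretransitive P Ω 2 → TwoTrans G Ω := by
    intro h a b c d hab hcd
    obtain ⟨⟨σ, g, rfl⟩, h1, h3⟩ := (twoTrans_iff P Ω).mpr h a b c d hab hcd
    exact ⟨g, h1, h3⟩
  rcases Nat.lt_or_ge m 2 with hm2 | hm2
  · have hm1 : m = 1 := by omega
    subst hm1
    rw [pow_one] at hpm
    have hα : (Fintype.card Ω).Prime := by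
      rw [← Nat.card_eq_fintype_card, ← hpm]; exact hp'
    rcases S0675.result hα P with h | h
    · haveI := h
      exact hns (Group.isSolvable_of_isSolvable_injective
        (f := e.rangeRestrict) (MonoidHom.rangeRestrict_injective_iff.mpr he))
    · exact hno (hP2 h)
  · obtain ⟨c, hc⟩ := IsCyclic.exists_ofOrder_eq_natCard (α := C)
    obtain ⟨a⟩ : Nonempty Ω := by
      rcases isEmpty_or_nonempty Ω with h | h
      · rw [Nat.card_of_isEmpty] at hn; omega
      · exact h
    have hcard : Nat.card C = Nat.card Ω := by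
      rw [← MulAction.index_stabilizer_of_transitive C a, hfree a, Subgroup.index_bot]
    let g : Equiv.Perm Ω := e (c : G)
    have hg : orderOf g = p ^ m := by
      rw [orderOf_injective e he, Subgroup.orderOf_coe, hc, hcard, hpm]
    let gP : P := ⟨g, (c : G), rfl⟩
    have h := (S3972.result p m hp' hm2 (by rw [← Nat.card_eq_fintype_card, hpm]) P hPpre
      (fun h => hno (hP2 h)) gP (by rw [← Subgroup.orderOf_coe]; exact hg)).1
    apply h
    refine (MulAction.isPreprimitive_congr (φ := e.rangeRestrict) (f :=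
      ({ toFun := id, map_smul' := fun _ _ => rfl } : Ω →ₑ[e.rangeRestrict] Ω))
      e.rangeRestrict_surjective Function.bijective_id).mp hprim

/-- The case of a core-free maximal subgroup containing `B`. -/
theorem good_of_core_free {G : Type u} [Group G] [Finite G] (hns : ¬ Group.IsSolvable G)
    (hrad : RadTrivial G) {A B M : Subgroup G} (hA : IsCyclic A) (hB : IsZGroup B)
    (hAB : ∀ g : G, ∃ a ∈ A, ∃ b ∈ B, g = a * b) (hM : IsCoatom M) (hBM : B ≤ M)
    (hcore : M.normalCore = ⊥) : Good G A B := by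
  classical
  haveI := hA
  haveI := faithful_of_core hcore
  haveI htrA : MulAction.IsPretransitive A (G ⧸ M) := by
    have h1 : ∀ x : G ⧸ M, ∃ a : A, a • ((1 : G) : G ⧸ M) = x := by
      intro x
      induction x using QuotientGroup.induction_on with | _ g =>
      obtain ⟨a, ha, b, hb, rfl⟩ := hAB g
      refine ⟨⟨a, ha⟩, ?_⟩
      change ((a * 1 : G) : G ⧸ M) = ((a * b : G) : G ⧸ M)
      rw [mul_one, QuotientGroup.eq, inv_mul_cancel_left]
      exact hBM hb
    refine ⟨fun x y => ?_⟩
    obtain ⟨u, rfl⟩ := h1 x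
    obtain ⟨v, rfl⟩ := h1 y
    exact ⟨v * u⁻¹, by rw [mul_smul, inv_smul_smul]⟩
  have hcommA : ∀ u v : A, u * v = v * u := IsMulCommutative.is_comm.comm
  have hfree : ∀ x : G ⧸ M, MulAction.stabilizer A x = ⊥ := by
    intro x
    rw [eq_bot_iff]
    intro u hu
    rw [Subgroup.mem_bot]
    apply Subtype.ext
    apply eq_of_smul_eq_smul (α := G ⧸ M)
    intro y
    obtain ⟨v, rfl⟩ := MulAction.exists_smul_eq A x y
    change u • v • x = (1 : G) • v • x
    rw [one_smul, ← mul_smul, hcommA, mul_smul, MulAction.mem_stabilizer_iff.mp hu]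
  have hAM : A ⊓ M = ⊥ := by
    rw [eq_bot_iff]
    intro u hu
    have h : (⟨u, hu.1⟩ : A) ∈ MulAction.stabilizer A ((1 : G) : G ⧸ M) := by
      change u • ((1 : G) : G ⧸ M) = ((1 : G) : G ⧸ M)
      exact MulAction.mem_stabilizer_iff.mp (by rw [stabilizer_one_eq]; exact hu.2)
    rw [hfree, Subgroup.mem_bot] at h
    exact Subgroup.mem_bot.mpr (congrArg Subtype.val h)
  have hMB : M = B := by
    refine le_antisymm (fun m hm => ?_) hBM
    obtain ⟨a, ha, b, hb, rfl⟩ := hAB m
    have ha' : a ∈ A ⊓ M := ⟨ha, by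
      have := mul_mem hm (inv_mem (hBM hb))
      rwa [mul_inv_cancel_right] at this⟩
    rw [hAM, Subgroup.mem_bot] at ha'
    rw [ha', one_mul]
    exact hb
  subst hMB
  set n := Nat.card (G ⧸ M) with hn
  have hn2 : 2 ≤ n := by
    have h1 : M.index ≠ 1 := by rw [Ne, Subgroup.index_eq_one]; exact hM.1
    have h3 : M.index ≠ 0 := Subgroup.index_ne_zero_of_finite
    change 2 ≤ M.index
    omega
  have hAcard : Nat.card A = n := by
    have h := MulAction.index_stabilizer_of_transitive A ((1 : G) : G ⧸ M)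
    rw [hfree, Subgroup.index_bot] at h
    exact h
  haveI : Nontrivial (G ⧸ M) := Finite.one_lt_card_iff_nontrivial.mp (by omega)
  have hprim : MulAction.IsPreprimitive G (G ⧸ M) := by
    rw [← MulAction.isCoatom_stabilizer_iff_preprimitive G ((1 : G) : G ⧸ M), stabilizer_one_eq]
    exact hM
  have h2 := twoTrans_of_cyclic_regular hn2 hprim A hA htrA hfree hns
  haveI hz := hB
  have hGcard : Nat.card G = n * Nat.card M := (Subgroup.index_mul_card M).symm
  have hneven : Even n := by
    by_contra hodd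
    haveI := Fact.mk Nat.prime_two
    have hevenG : 2 ∣ Nat.card G := by
      by_contra h
      exact hns (PF14.feitThompson G (Nat.odd_iff.mpr (by omega)))
    let Q : Sylow 2 M := default
    let S : Sylow 2 G := Sylow.ofCard ((Q : Subgroup M).map M.subtype) (by
      rw [Subgroup.card_map_of_injective M.subtype_injective, Q.card_eq_multiplicity, hGcard,
        Nat.factorization_mul (by omega) Nat.card_pos.ne', Finsupp.add_apply,
        Nat.factorization_eq_zero_of_not_dvd (fun h => hodd (even_iff_two_dvd.mpr h)), zero_add])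
    have hScyc : IsCyclic S := by
      have : IsCyclic ((Q : Subgroup M).map M.subtype) :=
        isCyclic_of_surjective _
          ((Q : Subgroup M).equivMapOfInjective _ M.subtype_injective).surjective
      exact this
    have hmin : (Nat.card G).minFac = 2 := (Nat.minFac_eq_two_iff _).mpr hevenG
    have hcompl := IsCyclic.isComplement' hmin hScyc
    set N := (MonoidHom.transferSylow S (hScyc.normalizer_le_centralizer hmin)).ker with hNdef
    haveI : N.Normal := by rw [hNdef]; exact MonoidHom.normal_ker _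
    have hNodd : Odd (Nat.card N) := by
      rw [← hcompl.index_eq_card, ← Nat.not_even_iff_odd, even_iff_two_dvd]
      exact S.not_dvd_index
    have hNbot : N = ⊥ := hrad N inferInstance (PF14.feitThompson N hNodd)
    have hc := hcompl.card_mul
    rw [hNbot, Subgroup.card_bot, one_mul] at hc
    obtain ⟨k, hk⟩ := IsPGroup.iff_card.mp S.2
    have hG2 : IsPGroup 2 G := IsPGroup.iff_card.mpr ⟨k, hc.symm.trans hk⟩
    haveI : Group.IsNilpotent G := hG2.isNilpotent
    exact hns inferInstance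
  obtain ⟨g, hg⟩ := IsCyclic.exists_ofOrder_eq_natCard (α := A)
  set e := n.factorization 2 with he
  have hdvd : 2 ^ e ∣ n := Nat.ordProj_dvd n 2
  set x : G := (g : G) ^ (n / 2 ^ e) with hx
  have hxord : orderOf x = 2 ^ e := by
    have hq : n / 2 ^ e ∣ n := Nat.div_dvd_of_dvd hdvd
    have hq0 : n / 2 ^ e ≠ 0 :=
      (Nat.div_pos (Nat.le_of_dvd (by omega) hdvd) (pow_pos two_pos _)).ne'
    rw [hx, orderOf_pow' _ hq0, Subgroup.orderOf_coe, hg, hAcard, Nat.gcd_eq_right hq,
      Nat.div_div_self hdvd (by omega)]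
  have hsemi : ∀ k : ℤ, x ^ k ≠ 1 → ∀ y : G ⧸ M, x ^ k • y ≠ y := by
    intro k hk y hy
    have hmemA : x ^ k ∈ A := zpow_mem (pow_mem g.2 _) _
    have h : (⟨x ^ k, hmemA⟩ : A) ∈ MulAction.stabilizer A y := hy
    rw [hfree, Subgroup.mem_bot] at h
    exact hk (congrArg Subtype.val h)
  have hH : MainHyp G (G ⧸ M) :=
    ⟨h2, hneven, hn2, fun y => isZGroup_stabilizer M y, ⟨x, hxord, hsemi⟩⟩
  rcases mainThm hH with h | ⟨hp, hpair⟩
  · exact (subsingleton_of_card_le_four hns hcore (by
      change n ≤ 4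
      rw [hn, h]; norm_num)).elim
  set p := n - 1 with hpdef
  have hp3 : 3 < p := by
    by_contra hle
    exact subsingleton_of_card_le_four hns hcore (by change n ≤ 4; omega)
  refine ⟨p, hp, hp3, by omega, ?_, by change n = p + 1; omega, hcore, h2, hAM⟩
  obtain ⟨b, hb⟩ := exists_ne ((1 : G) : G ⧸ M)
  have h1 := card_stabilizer_eq h2 hb.symm
  rw [stabilizer_one_eq, hpair _ b hb.symm, ← hn] at h1
  rw [h1, hpdef]
  congr 1

/-- Every nontrivial normal subgroup contains every element of order `p` of `B`. -/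
theorem Good.normal_contains {G : Type*} [Group G] [Finite G] (hrad : RadTrivial G)
    {A B : Subgroup G} [IsZGroup B] (h : Good G A B) :
    ∃ (p : ℕ) (P : Subgroup G), p.Prime ∧ Nat.card P = p ∧ Nat.card G = (p + 1) * (p * (p - 1)) ∧
      P ≠ ⊥ ∧ P ≤ B ∧ (∀ b ∈ B, ∀ u ∈ P, b * u * b⁻¹ ∈ P) ∧
      ∀ T : Subgroup G, T.Normal → T ≠ ⊥ → P ≤ T := by
  classical
  obtain ⟨p, hp, hp3, -, hBc, hidx, hcore, h2, -⟩ := h
  have hGc : Nat.card G = (p + 1) * (p * (p - 1)) := by
    rw [← Subgroup.index_mul_card B, hidx, hBc]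
  haveI := faithful_of_core hcore
  haveI := Fact.mk hp
  set o : G ⧸ B := ((1 : G) : G ⧸ B) with ho
  have hzs : IsZGroup (MulAction.stabilizer G o) := isZGroup_stabilizer B o
  obtain ⟨C, hCle, hCcyc, hnorm, -, hself, hsemi, hdvd⟩ := exists_stab_core h2 o
  rw [ho, stabilizer_one_eq] at hCle hnorm hself
  have hn : Nat.card (G ⧸ B) = p + 1 := hidx
  rw [hn, Nat.add_sub_cancel] at hdvd
  have hCp : Nat.card C = p := by
    rcases (Nat.dvd_prime hp).mp hdvd with h1 | h1
    · exfalso
      have hbot : C = ⊥ := Subgroup.card_eq_one.mp h1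
      have hle : B ≤ C := fun x hx => hself x hx (by
        intro c hc
        rw [hbot, Subgroup.mem_bot] at hc
        rw [hc, mul_one, one_mul])
      rw [hbot, le_bot_iff] at hle
      rw [hle, Subgroup.card_bot] at hBc
      exact absurd ((mul_eq_one).mp hBc.symm).1 hp.one_lt.ne'
    · exact h1
  refine ⟨p, C, hp, hCp, hGc, fun h => ?_, hCle, hnorm, fun T hT hT1 => ?_⟩
  · rw [h, Subgroup.card_bot] at hCp
    exact hp.one_lt.ne hCp
  haveI := hT
  -- `T` is not regular
  have hTa : ∃ t ∈ T, t ≠ 1 ∧ t • o = o := by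
    by_contra! hcon
    apply hT1
    refine hrad T hT ?_
    -- all nontrivial elements are conjugate under `B`
    obtain ⟨⟨u, hu⟩, hu1⟩ := Subgroup.ne_bot_iff_exists_ne_one.mp hT1
    have hu1' : u ≠ 1 := fun h => hu1 (Subtype.ext h)
    have hconj : ∀ v ∈ T, v ≠ 1 → orderOf v = orderOf u := by
      intro v hv hv1
      obtain ⟨g, hgo, hgu⟩ := h2 o (u • o) o (v • o) (hcon u hu hu1').symm (hcon v hv hv1).symm
      have hw : g * u * g⁻¹ ∈ T := hT.conj_mem u hu g
      have heq : (g * u * g⁻¹) • o = v • o := by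
        rw [mul_smul, mul_smul, show g⁻¹ • o = o by rw [inv_smul_eq_iff, hgo], hgu]
      have h1 : v⁻¹ * (g * u * g⁻¹) = 1 := by
        by_contra h1
        exact hcon _ (mul_mem (inv_mem hv) hw) h1 (by rw [mul_smul, heq, inv_smul_smul])
      rw [inv_mul_eq_one.mp h1, conj_orderOf]
    obtain ⟨r, hr, hru⟩ := Nat.exists_prime_and_dvd (orderOf_eq_one_iff.not.mpr hu1')
    haveI := Fact.mk hr
    have hru' : orderOf u = r := by
      have h0 : 0 < orderOf u := orderOf_pos u
      have hne : u ^ (orderOf u / r) ≠ 1 :=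
        pow_ne_one_of_lt_orderOf (Nat.div_pos (Nat.le_of_dvd h0 hru) hr.pos).ne'
          (Nat.div_lt_self h0 hr.one_lt)
      have h1 := hconj _ (pow_mem hu _) hne
      rw [orderOf_pow' u (Nat.div_pos (Nat.le_of_dvd h0 hru) hr.pos).ne',
        Nat.gcd_eq_right (Nat.div_dvd_of_dvd hru), Nat.div_div_self hru h0.ne'] at h1
      exact h1.symm
    have hTp : IsPGroup r T := by
      intro t
      refine ⟨1, ?_⟩
      by_cases ht : (t : G) = 1
      · rw [show t = 1 from Subtype.ext ht, one_pow]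
      · rw [pow_one, ← hru', ← hconj t t.2 ht, Subgroup.orderOf_coe, pow_orderOf_eq_one]
    haveI : Group.IsNilpotent T := hTp.isNilpotent
    infer_instance
  obtain ⟨t, ht, ht1, hto⟩ := hTa
  have htB : t ∈ B := by
    rw [← stabilizer_one_eq B]; exact hto
  -- `[t, C]` is nontrivial
  obtain ⟨c, hc, hct⟩ : ∃ c ∈ C, t * c * t⁻¹ * c⁻¹ ≠ 1 ∨ t ∈ C := by
    by_cases htC : t ∈ C
    · exact ⟨1, one_mem C, Or.inr htC⟩
    · by_contra! hcon
      exact htC (hself t htB fun c hc =>
        mul_inv_eq_iff_eq_mul.mp (mul_inv_eq_one.mp (hcon c hc).1))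
  obtain ⟨w, hwC, hwT, hw1⟩ : ∃ w : G, w ∈ C ∧ w ∈ T ∧ w ≠ 1 := by
    rcases hct with h1 | h1
    · refine ⟨_, mul_mem (hnorm t htB c hc) (inv_mem hc), ?_, h1⟩
      have : t * c * t⁻¹ * c⁻¹ = t * (c * t⁻¹ * c⁻¹) := by group
      rw [this]
      exact mul_mem ht (hT.conj_mem _ (inv_mem ht) c)
    · exact ⟨t, h1, ht, ht1⟩
  intro x hx
  have hord : ∀ y ∈ C, orderOf y ∣ p := fun y hy => by
    rw [← hCp, show y = ((⟨y, hy⟩ : C) : G) from rfl, Subgroup.orderOf_coe]
    exact orderOf_dvd_natCard _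
  have hwp : orderOf w = p := ((Nat.dvd_prime hp).mp (hord w hwC)).resolve_left
    (fun h => hw1 (orderOf_eq_one_iff.mp h))
  exact Subgroup.zpowers_le.mpr hwT (mem_zpowers_of_orderOf_dvd hCcyc hwC hx (hwp ▸ hord x hx))

/-- Two nontrivial normal subgroups meet. -/
theorem Good.normal_meet {G : Type*} [Group G] [Finite G] (hrad : RadTrivial G)
    {A B : Subgroup G} [IsZGroup B] (h : Good G A B) {S T : Subgroup G} (hS : S.Normal)
    (hT : T.Normal) (hS1 : S ≠ ⊥) (hT1 : T ≠ ⊥) : S ⊓ T ≠ ⊥ := by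
  obtain ⟨-, P, -, -, -, hP, -, -, hPT⟩ := h.normal_contains hrad
  intro h'
  apply hP
  rw [eq_bot_iff, ← h']
  exact le_inf (hPT S hS hS1) (hPT T hT hT1)

end Cfsg.Agent.CycZProd
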